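import Cfsg.Agent.Lib.SUPresent.Perm
import Cfsg.Agent.Lib.Presented.Word

/-!
Matrices over a quadratic extension of a prime field, written in codes: the code `x` stands for
`x % p + (x / p) ι` where `ι² = r + s ι`.
-/

set_option autoImplicit false
set_option linter.unusedSectionVars false

namespace CfsgLib.SUPresent

open Matrix CfsgLib.Phan CfsgLib.ClassicalGroups

/-- Parameters of the codes. -/
structure CodeCtx where
  p : ℕ
  r : ℕ
  s : ℕ

namespace CodeCtx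

variable (K : CodeCtx)

/-- Sum of codes. -/
def addc (x y : ℕ) : ℕ := (x % K.p + y % K.p) % K.p + K.p * ((x / K.p + y / K.p) % K.p)

/-- Product of codes. -/
def mulc (x y : ℕ) : ℕ :=
  (x % K.p * (y % K.p) + K.r * (x / K.p * (y / K.p))) % K.p +
    K.p * ((x % K.p * (y / K.p) + x / K.p * (y % K.p) + K.s * (x / K.p * (y / K.p))) % K.p)

/-- Powers of codes. -/
def powc (x : ℕ) : ℕ → ℕ
  | 0 => 1
  | k + 1 => K.mulc (powc x k) x

/-- Difference of codes. -/
def subc (x y : ℕ) : ℕ := K.addc x (K.mulc (K.p - 1) y)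

/-- Product of two matrices of size four. -/
def mmul (u v : List ℕ) : List ℕ := (List.range 16).map fun t =>
  K.addc (K.addc (K.addc (K.mulc (u.getD (4 * (t / 4)) 0) (v.getD (t % 4) 0))
    (K.mulc (u.getD (4 * (t / 4) + 1) 0) (v.getD (4 + t % 4) 0)))
    (K.mulc (u.getD (4 * (t / 4) + 2) 0) (v.getD (8 + t % 4) 0)))
    (K.mulc (u.getD (4 * (t / 4) + 3) 0) (v.getD (12 + t % 4) 0))

/-- The identity matrix of size four. -/
def idc : List ℕ := [1, 0, 0, 0, 0, 1, 0, 0, 0, 0, 1, 0, 0, 0, 0, 1]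

/-- The matrix of size four of a matrix of size three. -/
def four (u : List ℕ) : List ℕ :=
  [u.getD 0 0, u.getD 1 0, u.getD 2 0, 0, u.getD 3 0, u.getD 4 0, u.getD 5 0, 0,
    u.getD 6 0, u.getD 7 0, u.getD 8 0, 0, 0, 0, 0, 1]

/-- Special unitarity of a matrix of size three. -/
def check3 (u : List ℕ) : Bool :=
  ((List.range 3).all fun j => (List.range 3).all fun k => Nat.beq
    (K.addc (K.addc (K.mulc (u.getD j 0) (K.powc (u.getD k 0) K.p))
      (K.mulc (u.getD (3 + j) 0) (K.powc (u.getD (3 + k) 0) K.p)))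
      (K.mulc (u.getD (6 + j) 0) (K.powc (u.getD (6 + k) 0) K.p))) (cond (Nat.beq j k) 1 0)) &&
  Nat.beq (K.subc (K.addc (K.addc (K.subc (K.subc (K.mulc (K.mulc (u.getD 0 0) (u.getD 4 0)) (u.getD 8 0))
      (K.mulc (K.mulc (u.getD 0 0) (u.getD 5 0)) (u.getD 7 0)))
      (K.mulc (K.mulc (u.getD 1 0) (u.getD 3 0)) (u.getD 8 0)))
      (K.mulc (K.mulc (u.getD 1 0) (u.getD 5 0)) (u.getD 6 0)))
      (K.mulc (K.mulc (u.getD 2 0) (u.getD 3 0)) (u.getD 7 0)))
      (K.mulc (K.mulc (u.getD 2 0) (u.getD 4 0)) (u.getD 6 0))) 1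

/-- The product of a word. -/
def evc (g : List (List ℕ)) (w : List ℕ) : List ℕ := w.foldr (fun x acc => K.mmul (g.getD x idc) acc) idc

variable {F : Type*} [Field F] (ι : F)

/-- The element of a code. -/
def em (x : ℕ) : F := ((x % K.p : ℕ) : F) + ((x / K.p : ℕ) : F) * ι

/-- The hypotheses making the codes meaningful. -/
structure Ok : Prop where
  pr : Nat.Prime K.p
  ch : CharP F K.p
  sq : ι * ι = (K.r : F) + (K.s : F) * ι

variable {K ι}

theorem Ok.cast_mod (h : K.Ok ι) (a : ℕ) : ((a % K.p : ℕ) : F) = (a : F) := by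
  haveI := h.ch
  exact (CharP.natCast_eq_natCast F K.p).2 (Nat.mod_modEq a K.p)

theorem Ok.em_mk (h : K.Ok ι) (a b : ℕ) : K.em ι (a % K.p + K.p * (b % K.p)) = (a : F) + (b : F) * ι := by
  have hp := h.pr.pos
  rw [em, Nat.add_mul_mod_self_left, Nat.mod_mod, Nat.add_mul_div_left _ _ hp,
    Nat.div_eq_of_lt (Nat.mod_lt a hp), Nat.zero_add, h.cast_mod, h.cast_mod]

theorem Ok.em_add (h : K.Ok ι) (x y : ℕ) : K.em ι (K.addc x y) = K.em ι x + K.em ι y := by
  rw [addc, h.em_mk, Nat.cast_add, Nat.cast_add, em, em]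
  ring

theorem Ok.em_mul (h : K.Ok ι) (x y : ℕ) : K.em ι (K.mulc x y) = K.em ι x * K.em ι y := by
  rw [mulc, h.em_mk, em, em]
  push_cast
  linear_combination -(((x / K.p : ℕ) : F) * ((y / K.p : ℕ) : F)) * h.sq

theorem Ok.em_zero : K.em ι 0 = 0 := by simp [em]

theorem Ok.em_one (h : K.Ok ι) : K.em ι 1 = 1 := by
  simp [em, Nat.mod_eq_of_lt h.pr.one_lt, Nat.div_eq_of_lt h.pr.one_lt]

theorem Ok.em_pow (h : K.Ok ι) (x : ℕ) : ∀ k, K.em ι (K.powc x k) = K.em ι x ^ k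
  | 0 => by rw [powc, h.em_one, pow_zero]
  | k + 1 => by rw [powc, h.em_mul, h.em_pow x k, pow_succ]

theorem Ok.em_sub (h : K.Ok ι) (x y : ℕ) : K.em ι (K.subc x y) = K.em ι x - K.em ι y := by
  haveI := h.ch
  have e : K.em ι (K.p - 1) = -1 := by
    have hp := h.pr.one_lt
    rw [em, Nat.mod_eq_of_lt (by omega), Nat.div_eq_of_lt (by omega), Nat.cast_sub (by omega),
      CharP.cast_eq_zero, Nat.cast_zero, zero_mul, add_zero, Nat.cast_one, zero_sub]
  rw [subc, h.em_add, h.em_mul, e]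
  ring

variable (K ι)

/-- The matrix of a list of codes. -/
def toM (n : ℕ) (u : List ℕ) : Matrix (Fin n) (Fin n) F :=
  Matrix.of fun i j => K.em ι (u.getD (n * (i : ℕ) + (j : ℕ)) 0)

variable {K ι}

theorem Ok.toM_mmul (h : K.Ok ι) (u v : List ℕ) :
    K.toM ι 4 (K.mmul u v) = K.toM ι 4 u * K.toM ι 4 v := by
  ext i j
  rw [Matrix.mul_apply, Fin.sum_univ_four]
  have e : (K.mmul u v).getD (4 * (i : ℕ) + (j : ℕ)) 0 =
      K.addc (K.addc (K.addc (K.mulc (u.getD (4 * (i : ℕ)) 0) (v.getD (j : ℕ) 0))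
        (K.mulc (u.getD (4 * (i : ℕ) + 1) 0) (v.getD (4 + (j : ℕ)) 0)))
        (K.mulc (u.getD (4 * (i : ℕ) + 2) 0) (v.getD (8 + (j : ℕ)) 0)))
        (K.mulc (u.getD (4 * (i : ℕ) + 3) 0) (v.getD (12 + (j : ℕ)) 0)) := by
    rw [mmul, List.getD_eq_getElem _ _ (by simp; omega), List.getElem_map, List.getElem_range,
      show (4 * (i : ℕ) + (j : ℕ)) / 4 = i by omega, show (4 * (i : ℕ) + (j : ℕ)) % 4 = j by omega]
  simp only [toM, Matrix.of_apply, e, h.em_add, h.em_mul]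
  simp

theorem Ok.toM_idc (h : K.Ok ι) : K.toM ι 4 idc = 1 := by
  ext i j
  fin_cases i <;> fin_cases j <;> simp [toM, idc, h.em_one, Ok.em_zero]

section elements

variable [Fintype F] (h : K.Ok ι) (hF : Fintype.card F = K.p ^ 2) {u : List ℕ} (hu : K.check3 u = true)

include h hu in
theorem det_toM3 : (K.toM ι 3 u).det = 1 := by
  simp only [check3, Bool.and_eq_true] at hu
  have e := congrArg (K.em ι) (Nat.eq_of_beq_eq_true hu.2)
  simp only [h.em_sub, h.em_add, h.em_mul, h.em_one] at e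
  rw [det_fin_three]
  simp only [toM, Matrix.of_apply]
  simpa using e

include h hu hF in
theorem toM3_mem : (⟨K.toM ι 3 u, det_toM3 h hu⟩ : SpecialLinearGroup (Fin 3) F) ∈ Cfsg.SU 3 F K.p := by
  have hj : ∀ j k : Fin 3, K.em ι (u.getD (j : ℕ) 0) * K.em ι (u.getD (k : ℕ) 0) ^ K.p +
      K.em ι (u.getD (3 + (j : ℕ)) 0) * K.em ι (u.getD (3 + (k : ℕ)) 0) ^ K.p +
      K.em ι (u.getD (6 + (j : ℕ)) 0) * K.em ι (u.getD (6 + (k : ℕ)) 0) ^ K.p = if j = k then 1 else 0 := by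
    intro j k
    simp only [check3, Bool.and_eq_true, List.all_eq_true, List.mem_range] at hu
    have e := congrArg (K.em ι) (Nat.eq_of_beq_eq_true (hu.1 j j.2 k k.2))
    simp only [h.em_add, h.em_mul, h.em_pow] at e
    rw [e]
    fin_cases j <;> fin_cases k <;> simp [Nat.beq, h.em_one, Ok.em_zero]
  have h00 := hj 0 0
  have h01 := hj 0 1
  have h02 := hj 0 2
  have h10 := hj 1 0
  have h11 := hj 1 1
  have h12 := hj 1 2
  have h20 := hj 2 0
  have h21 := hj 2 1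
  have h22 := hj 2 2
  simp at h00 h01 h02 h10 h11 h12 h20 h21 h22
  refine mem_SU_iff.2 fun v w => ?_
  simp [Cfsg.hermForm, Fin.sum_univ_three, mulVec, dotProduct, toM, herm_conj_add hF, mul_pow]
  linear_combination (v 0 * w 0 ^ K.p) * h00 + (v 0 * w 1 ^ K.p) * h01 + (v 0 * w 2 ^ K.p) * h02 +
    (v 1 * w 0 ^ K.p) * h10 + (v 1 * w 1 ^ K.p) * h11 + (v 1 * w 2 ^ K.p) * h12 +
    (v 2 * w 0 ^ K.p) * h20 + (v 2 * w 1 ^ K.p) * h21 + (v 2 * w 2 ^ K.p) * h22

/-- The element of `SU 3` of a list of codes. -/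
def mk3 : Cfsg.SU 3 F K.p := ⟨⟨K.toM ι 3 u, det_toM3 h hu⟩, toM3_mem h hF hu⟩

theorem mk3_four : (bk 0 (show 0 + 3 ≤ 4 by omega) (mk3 h hF hu)).1.1 = K.toM ι 4 (four u) := by
  refine Matrix.ext_of_mulVec_single fun i => funext fun j => ?_
  show act (bk 0 _ (mk3 h hF hu)) (Pi.single i 1) j = _
  rcases (show (j : ℕ) < 3 ∨ (j : ℕ) = 3 by omega) with hj | hj
  · have e : j = ⟨0 + ((⟨j, hj⟩ : Fin 3) : ℕ), by simp only; omega⟩ := Fin.ext (by simp)
    rw [e, act_bk_coord]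
    fin_cases i <;> fin_cases j <;>
      first | (exfalso; simp at hj; done) |
        simp [act, mk3, toM, four, seg, mulVec, dotProduct, Fin.sum_univ_three, Fin.sum_univ_four, Ok.em_zero]
  · obtain rfl : j = 3 := Fin.ext hj
    rw [act_bk_out _ _ _ _ (Or.inr (by decide))]
    fin_cases i <;> simp [toM, four, mulVec_single_one, h.em_one, Ok.em_zero]

end elements

/-- Words of elements. -/
theorem Ok.evW_val [Fintype F] (h : K.Ok ι) {el : ℕ → Cfsg.SU 4 F K.p} {g : List (List ℕ)}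
    (hel : ∀ x, x < g.length → (el x).1.1 = K.toM ι 4 (g.getD x idc)) (hone : ∀ x, g.length ≤ x → el x = 1) :
    ∀ w : List ℕ, (CfsgLib.Presented.evW el w).1.1 = K.toM ι 4 (K.evc g w)
  | [] => by
    show (1 : Matrix (Fin 4) (Fin 4) F) = _
    rw [evc, List.foldr_nil, h.toM_idc]
  | x :: w => by
    have ih := h.evW_val hel hone w
    show (el x).1.1 * (CfsgLib.Presented.evW el w).1.1 = _
    rw [ih, show K.evc g (x :: w) = K.mmul (g.getD x idc) (K.evc g w) from rfl, h.toM_mmul]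
    congr 1
    rcases Nat.lt_or_ge x g.length with hx | hx
    · exact hel x hx
    · rw [hone x hx, List.getD_eq_getElem?_getD, List.getElem?_eq_none hx, Option.getD_none, h.toM_idc]
      rfl

end CodeCtx

end CfsgLib.SUPresent
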