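import Cfsg.Agent.Lib.SUPresent.Gen
import Cfsg.Agent.Lib.Phan.Universal

/-!
A copy of the alternating group and a copy of `SU_3` glued along few compatibilities map onto a quotient of
`SU_n`.
-/

set_option autoImplicit false
set_option linter.unusedSectionVars false

namespace CfsgLib.SUPresent

open Matrix Equiv CfsgLib.Phan CfsgLib.ClassicalGroups

variable {F : Type*} [Field F] [Fintype F] {q n : ℕ} {G : Type*} [Group G]

/-- The first two coordinates. -/
abbrev i2 (h : 4 ≤ n) : Fin 2 → Fin n := seg 0 (show 0 + 2 ≤ n by omega)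

/-- The first three coordinates. -/
abbrev i3 (h : 4 ≤ n) : Fin 3 → Fin n := seg 0 (show 0 + 3 ≤ n by omega)

/-- The first four coordinates. -/
abbrev i4 (h : 4 ≤ n) : Fin 4 → Fin n := seg 0 (show 0 + 4 ≤ n by omega)

theorem seg_i4 (hn : 4 ≤ n) (j : ℕ) {k : ℕ} (h : j + k ≤ 4) (h' : j + k ≤ n) (a : Fin k) :
    i4 hn (seg j h a) = seg j h' a := Fin.ext (by simp [i4, seg])

theorem seg_i3 (hn : 4 ≤ n) (j : ℕ) {k : ℕ} (h : j + k ≤ 3) (h' : j + k ≤ n) (a : Fin k) :
    i3 hn (seg j h a) = seg j h' a := Fin.ext (by simp [i3, seg])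

/-- An injection of two points into three through an even permutation. -/
theorem decomp_pair : ∀ (u : Fin 2 → Fin 3), Function.Injective u → ∃ τ : alternatingGroup (Fin 3),
    ∃ t : Fin 2 → Fin 2, Function.Injective t ∧
      ∀ a, u a = (τ : Perm (Fin 3)) (seg 0 (show 0 + 2 ≤ 3 by decide) (t a)) := by
  unfold Function.Injective seg
  decide

/-- The compatibilities. -/
structure Hyp (hn : 4 ≤ n) (ρ : alternatingGroup (Fin n) →* G) (M : Cfsg.SU 3 F q →* G) : Prop where
  hc : ∀ (σ : alternatingGroup (Fin n)) (τ : alternatingGroup (Fin 3)),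
    (∀ a, (σ : Perm (Fin n)) (i3 hn a) = i3 hn ((τ : Perm (Fin 3)) a)) →
    (∀ x, x ∉ Set.range (i3 hn) → (σ : Perm (Fin n)) x = x) → ρ σ = M (pm F q 3 τ)
  hst : ∀ (σ : alternatingGroup (Fin n)) (t : Fin 2 → Fin 2) (ht : Function.Injective t),
    (∀ a, (σ : Perm (Fin n)) (i2 hn a) = i2 hn (t a)) →
    ∀ x, ρ σ * M (b01 x) * (ρ σ)⁻¹ = M (b01 (emb t ht x))
  hcomm : ∃ σ : alternatingGroup (Fin n),
    (∀ a, (σ : Perm (Fin n)) (i2 hn a) = seg 2 (show 2 + 2 ≤ n by omega) a) ∧
    ∀ x y, Commute (M (b01 x)) (ρ σ * M (b01 y) * (ρ σ)⁻¹)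

namespace Hyp


/-- An even permutation carrying the first two points to given ones. -/
noncomputable def mover (hn : 4 ≤ n) (f : Fin 2 → Fin n) (hf : Function.Injective f) :
    alternatingGroup (Fin n) :=
  (exists_even_free (seg_injective 0 (show 0 + 2 ≤ n by omega)) hf hn).choose

/-- The pair blocks. -/
noncomputable def N (hn : 4 ≤ n) (ρ : alternatingGroup (Fin n) →* G) (M : Cfsg.SU 3 F q →* G)
    (f : Fin 2 → Fin n) (hf : Function.Injective f) : Cfsg.SU 2 F q →* G :=
  (MulAut.conj (ρ (mover hn f hf))).toMonoidHom.comp (M.comp b01)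

variable {hn : 4 ≤ n} {ρ : alternatingGroup (Fin n) →* G} {M : Cfsg.SU 3 F q →* G}

theorem mover_spec (f : Fin 2 → Fin n) (hf : Function.Injective f) (a : Fin 2) :
    ((mover hn f hf : alternatingGroup (Fin n)) : Perm (Fin n)) (i2 hn a) = f a :=
  (exists_even_free (seg_injective 0 (show 0 + 2 ≤ n by omega)) hf hn).choose_spec a

theorem N_apply (f : Fin 2 → Fin n) (hf : Function.Injective f) (x : Cfsg.SU 2 F q) :
    N hn ρ M f hf x = ρ (mover hn f hf) * M (b01 x) * (ρ (mover hn f hf))⁻¹ := rfl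

theorem N_congr {f f' : Fin 2 → Fin n} (hf : Function.Injective f) (hf' : Function.Injective f')
    (h : f = f') (x : Cfsg.SU 2 F q) : N hn ρ M f hf x = N hn ρ M f' hf' x := by
  subst h; rfl

variable (H : Hyp (F := F) (q := q) hn ρ M)
include H

theorem N_eq {f : Fin 2 → Fin n} (hf : Function.Injective f) (σ : alternatingGroup (Fin n))
    (h : ∀ a, (σ : Perm (Fin n)) (i2 hn a) = f a) (x : Cfsg.SU 2 F q) :
    ρ σ * M (b01 x) * (ρ σ)⁻¹ = N hn ρ M f hf x := by
  have hs := H.hst ((mover hn f hf)⁻¹ * σ) id Function.injective_id (fun a => by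
    rw [Subgroup.coe_mul, Perm.mul_apply, h, ← mover_spec (hn := hn) f hf a, Subgroup.coe_inv, inv_apply]
    rfl) x
  rw [show emb id Function.injective_id x = x by
    conv_rhs => rw [← bk_self (show 0 + 2 ≤ 2 by omega) x]
    exact emb_congr _ _ (funext fun a => Fin.ext (by simp [seg])) x, map_mul, map_inv] at hs
  rw [N_apply]
  conv_rhs => rw [← hs]
  group

theorem N_base (x : Cfsg.SU 2 F q) : M (b01 x) = N hn ρ M (i2 hn) (seg_injective 0 _) x := by
  rw [← H.N_eq (f := i2 hn) (seg_injective 0 _) 1 (fun a => rfl), map_one, one_mul, inv_one, mul_one]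

theorem N_move {f f' : Fin 2 → Fin n} (hf : Function.Injective f) (hf' : Function.Injective f')
    (σ : alternatingGroup (Fin n)) (h : ∀ a, (σ : Perm (Fin n)) (f a) = f' a) (x : Cfsg.SU 2 F q) :
    ρ σ * N hn ρ M f hf x * (ρ σ)⁻¹ = N hn ρ M f' hf' x := by
  rw [← H.N_eq hf' (σ * mover hn f hf) (fun a => by
    rw [Subgroup.coe_mul, Perm.mul_apply, mover_spec, h]), N_apply, map_mul]
  group

theorem N_comp {f : Fin 2 → Fin n} (hf : Function.Injective f) (t : Fin 2 → Fin 2)
    (ht : Function.Injective t) (x : Cfsg.SU 2 F q) :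
    N hn ρ M (fun a => f (t a)) (hf.comp ht) x = N hn ρ M f hf (emb t ht x) := by
  obtain ⟨σ, hσ⟩ := exists_even_free (seg_injective 0 (show 0 + 2 ≤ n by omega))
    ((seg_injective 0 (show 0 + 2 ≤ n by omega)).comp ht) hn
  rw [← H.N_eq (f := fun a => f (t a)) (hf.comp ht) (mover hn f hf * σ) (fun a => by
    rw [Subgroup.coe_mul, Perm.mul_apply, hσ]; exact mover_spec (hn := hn) f hf (t a)), N_apply,
    ← H.hst σ t ht hσ x, map_mul]
  group

/-- Commutation of disjoint pairs. -/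
theorem N_comm {f f' : Fin 2 → Fin n} (hf : Function.Injective f) (hf' : Function.Injective f')
    (hd : ∀ a b, f a ≠ f' b) (x y : Cfsg.SU 2 F q) :
    Commute (N hn ρ M f hf x) (N hn ρ M f' hf' y) := by
  obtain ⟨σ0, hσ0, hc⟩ := H.hcomm
  have hbase : ∀ x y, Commute (N hn ρ M (i2 hn) (seg_injective 0 _) x)
      (N hn ρ M (seg 2 (show 2 + 2 ≤ n by omega)) (seg_injective _ _) y) := fun x y => by
    have := hc x y
    rwa [H.N_eq (seg_injective 2 (show 2 + 2 ≤ n by omega)) σ0 hσ0, H.N_base x] at this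
  let e : Fin 4 → Fin n := ![f 0, f 1, f' 0, f' 1]
  have he : Function.Injective e := by
    intro a b hab
    have h01 : f 0 ≠ f 1 := hf.ne (by decide)
    have h01' : f' 0 ≠ f' 1 := hf'.ne (by decide)
    fin_cases a <;> fin_cases b <;> simp [e] at hab ⊢ <;>
      first
        | exact (h01 hab).elim | exact (h01 hab.symm).elim | exact (h01' hab).elim
        | exact (h01' hab.symm).elim | exact (hd _ _ hab).elim | exact (hd _ _ hab.symm).elim
  obtain ⟨σ, hσ⟩ := exists_even_ext (seg_injective 0 (show 0 + 4 ≤ n by omega)) he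
    (show (0 : Fin 4) ≠ 1 by decide)
  have hs0 : ∀ a, (σ : Perm (Fin n)) (i2 hn a) = (σ : Perm (Fin n)) (i4 hn (seg 0 (show 0 + 2 ≤ 4 by omega) a)) :=
    fun a => by rw [seg_i4]
  have hs2 : ∀ a, (σ : Perm (Fin n)) (seg 2 (show 2 + 2 ≤ n by omega) a) =
      (σ : Perm (Fin n)) (i4 hn (seg 2 (show 2 + 2 ≤ 4 by omega) a)) := fun a => by rw [seg_i4]
  rcases hσ with hσ | hσ
  · have k0 : ∀ a, (σ : Perm (Fin n)) (i2 hn a) = f a := fun a => by
      rw [hs0, hσ]; fin_cases a <;> rfl
    have k2 : ∀ a, (σ : Perm (Fin n)) (seg 2 (show 2 + 2 ≤ n by omega) a) = f' a := fun a => by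
      rw [hs2, hσ]; fin_cases a <;> rfl
    have h := (hbase x y).map (MulAut.conj (ρ σ)).toMonoidHom
    simp only [MulEquiv.coe_toMonoidHom, MulAut.conj_apply] at h
    rwa [H.N_move (seg_injective 0 _) hf σ k0, H.N_move (seg_injective 2 _) hf' σ k2] at h
  · have hsw : Function.Injective (Equiv.swap (0 : Fin 2) 1) := (Equiv.swap _ _).injective
    have k0 : ∀ a, (σ : Perm (Fin n)) (i2 hn a) = (f ∘ Equiv.swap (0 : Fin 2) 1) a := fun a => by
      rw [hs0, hσ]; fin_cases a <;> rfl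
    have k2 : ∀ a, (σ : Perm (Fin n)) (seg 2 (show 2 + 2 ≤ n by omega) a) = f' a := fun a => by
      rw [hs2, hσ]; fin_cases a <;> rfl
    have hx : x = emb (Equiv.swap (0 : Fin 2) 1) hsw (emb (Equiv.swap (0 : Fin 2) 1) hsw x) := by
      rw [emb_comp]
      conv_lhs => rw [← bk_self (show 0 + 2 ≤ 2 by omega) x]
      exact emb_congr _ _ (funext fun a => Fin.ext (by simp [seg])) x
    rw [hx, ← H.N_comp hf _ hsw]
    have h := (hbase (emb (Equiv.swap (0 : Fin 2) 1) hsw x) y).map (MulAut.conj (ρ σ)).toMonoidHom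
    simp only [MulEquiv.coe_toMonoidHom, MulAut.conj_apply] at h
    rwa [H.N_move (seg_injective 0 _) (hf.comp hsw) σ k0, H.N_move (seg_injective 2 _) hf' σ k2] at h

/-- The pair blocks inside the first triple. -/
theorem M_emb (u : Fin 2 → Fin 3) (hu : Function.Injective u) (x : Cfsg.SU 2 F q) :
    M (emb u hu x) = N hn ρ M (fun a => i3 hn (u a)) ((seg_injective 0 _).comp hu) x := by
  obtain ⟨τ, t, ht, htu⟩ := decomp_pair u hu
  obtain ⟨σ, hσ1, hσ2⟩ : ∃ σ : alternatingGroup (Fin n),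
      (∀ a, (σ : Perm (Fin n)) (i3 hn a) = i3 hn ((τ : Perm (Fin 3)) a)) ∧
      ∀ x, x ∉ Set.range (i3 hn) → (σ : Perm (Fin n)) x = x := by
    let e := Equiv.ofInjective (i3 hn) (seg_injective 0 _)
    refine ⟨⟨(τ : Perm (Fin 3)).extendDomain e, Perm.mem_alternatingGroup.2 (by
      rw [Perm.sign_extendDomain]; exact Perm.mem_alternatingGroup.1 τ.2)⟩, fun a => ?_,
      fun x hx => Perm.extendDomain_apply_not_subtype _ _ hx⟩
    have := Perm.extendDomain_apply_image (τ : Perm (Fin 3)) e a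
    simpa [e] using this
  have he : emb u hu x = pm F q 3 τ * b01 (emb t ht x) * (pm F q 3 τ)⁻¹ := by
    rw [b01, bk, emb_comp, pm_conj τ _ hu (fun a => (htu a).symm)]
  rw [he, map_mul, map_mul, map_inv, ← H.hc σ τ hσ1 hσ2, H.N_base,
    ← H.N_comp (seg_injective 0 _) t ht]
  refine H.N_move _ _ σ (fun a => ?_) x
  show (σ : Perm (Fin n)) (i2 hn (t a)) = i3 hn (u a)
  rw [htu, ← hσ1, seg_i3]

/-- The triple blocks. -/
theorem exists_psi (i : ℕ) (hi : i + 3 ≤ n) :
    ∃ (σ : alternatingGroup (Fin n)) (s : Perm (Fin 3)) (ψ : Cfsg.SU 3 F q →* G),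
      (∀ a, (σ : Perm (Fin n)) (i3 hn a) = seg i hi (s a)) ∧
      (∀ x, ψ x = ρ σ * M (emb s.symm s.symm.injective x) * (ρ σ)⁻¹) ∧
      ∀ (u : Fin 2 → Fin 3) (hu : Function.Injective u) (x : Cfsg.SU 2 F q),
        ψ (emb u hu x) = N hn ρ M (fun a => seg i hi (u a)) ((seg_injective i hi).comp hu) x := by
  obtain ⟨σ, hσ⟩ := exists_even_ext (seg_injective 0 (show 0 + 3 ≤ n by omega)) (seg_injective i hi)
    (show (0 : Fin 3) ≠ 1 by decide)
  obtain ⟨s, hs⟩ : ∃ s : Perm (Fin 3), ∀ a, (σ : Perm (Fin n)) (i3 hn a) = seg i hi (s a) := by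
    rcases hσ with h | h
    exacts [⟨1, h⟩, ⟨_, h⟩]
  refine ⟨σ, s, (MulAut.conj (ρ σ)).toMonoidHom.comp (M.comp (emb s.symm s.symm.injective)), hs,
    fun x => rfl, fun u hu x => ?_⟩
  show ρ σ * M (emb s.symm _ (emb u hu x)) * (ρ σ)⁻¹ = _
  rw [emb_comp, H.M_emb]
  refine H.N_move _ _ σ (fun a => ?_) x
  show (σ : Perm (Fin n)) (i3 hn (s.symm (u a))) = seg i hi (u a)
  rw [hs, Equiv.apply_symm_apply]

/-- The three-cycle on the first three points. -/
theorem exists_cycle : ∃ (c : alternatingGroup (Fin n)) (τ : alternatingGroup (Fin 3)),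
    (∀ a : Fin 3, (τ : Perm (Fin 3)) a = a + 1) ∧ ρ c = M (pm F q 3 τ) ∧
    (∀ a, (c : Perm (Fin n)) (i3 hn a) = i3 hn (a + 1)) ∧
    ∀ x, x ∉ Set.range (i3 hn) → (c : Perm (Fin n)) x = x := by
  let e := Equiv.ofInjective (i3 hn) (seg_injective 0 _)
  let τ : alternatingGroup (Fin 3) := ⟨finRotate 3, Perm.mem_alternatingGroup.2 (by decide)⟩
  have hτ : ∀ a : Fin 3, (τ : Perm (Fin 3)) a = a + 1 := fun a => finRotate_apply a
  let c : alternatingGroup (Fin n) := ⟨(τ : Perm (Fin 3)).extendDomain e, Perm.mem_alternatingGroup.2 (by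
    rw [Perm.sign_extendDomain]; exact Perm.mem_alternatingGroup.1 τ.2)⟩
  have h1 : ∀ a, (c : Perm (Fin n)) (i3 hn a) = i3 hn ((τ : Perm (Fin 3)) a) := fun a => by
    have := Perm.extendDomain_apply_image (τ : Perm (Fin 3)) e a
    simpa [c, e] using this
  have h2 : ∀ x, x ∉ Set.range (i3 hn) → (c : Perm (Fin n)) x = x :=
    fun x hx => Perm.extendDomain_apply_not_subtype _ _ hx
  exact ⟨c, τ, hτ, H.hc c τ h1 h2, fun a => by rw [h1, hτ], h2⟩

/-- The completion. -/
theorem exists_surjective (hF : Fintype.card F = q ^ 2) (hq : 3 ≤ q)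
    (h4 : 4 ≤ q ∨ ∀ i (hi : i + 4 ≤ n), ∃ f : Cfsg.SU 4 F q →* G, ∀ k (h : k + 2 ≤ 4) x,
      f (bk k h x) = N hn ρ M (seg (i + k) (show i + k + 2 ≤ n by omega)) (seg_injective _ _) x)
    (hgen : Subgroup.closure (Set.range ρ ∪ Set.range M) = ⊤) :
    ∃ f : Cfsg.SU n F q →* G, Function.Surjective f := by
  classical
  choose σs ss ψ hσs hψd hψ using H.exists_psi
  let S : Sys F q G n :=
    { φ := fun i => if h : i + 2 ≤ n then N hn ρ M (seg i h) (seg_injective _ _) else 1
      ψ := fun i => if h : i + 3 ≤ n then ψ i h else 1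
      c01 := fun i h x => by
        rw [dif_pos h, dif_pos (show i + 2 ≤ n by omega), b01, bk, hψ i h]
        exact N_congr _ _ (funext fun a => Fin.ext (by simp [seg])) x
      c12 := fun i h x => by
        rw [dif_pos h, dif_pos (show i + 1 + 2 ≤ n by omega), b12, bk, hψ i h]
        exact N_congr _ _ (funext fun a => Fin.ext (by simp [seg]; omega)) x
      comm := fun i j h h' x y => by
        rw [dif_pos h', dif_pos (show i + 2 ≤ n by omega)]
        exact H.N_comm _ _ (fun a b e => by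
          have := congrArg Fin.val e
          simp only [seg] at this
          omega) x y }
  refine exists_surjective' hF hq (show 2 ≤ n by omega) S (h4.imp id fun h i hi => ?_) fun K hK2 hK3 => ?_
  · obtain ⟨f, hf⟩ := h i hi
    refine ⟨f, fun k hk x => (hf k hk x).trans ?_⟩
    simp only [S]
    rw [dif_pos (show i + k + 2 ≤ n by omega)]
  have hK3' : ∀ i (hi : i + 3 ≤ n) x, ψ i hi x ∈ K := fun i hi x =>
    hK3 i hi ⟨x, by simp only [S, dif_pos hi]⟩
  obtain ⟨c, τ, hτ, hρc, hc1, hc2⟩ := H.exists_cycle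
  let K' : Subgroup (Perm (Fin n)) := (K.comap ρ).map (alternatingGroup (Fin n)).subtype
  have halt : alternatingGroup (Fin n) ≤ K' := by
    refine alt_le_of_adjacent K' (by rintro _ ⟨σ, -, rfl⟩; exact σ.2) fun i hi => ?_
    have hmem : ρ (σs i hi * c * (σs i hi)⁻¹) ∈ K := by
      rw [map_mul, map_mul, map_inv, hρc]
      have hinv : ∀ y : Cfsg.SU 3 F q,
          emb (ss i hi).symm (ss i hi).symm.injective (emb (ss i hi) (ss i hi).injective y) = y := fun y => by
        rw [emb_comp]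
        conv_rhs => rw [← bk_self (show 0 + 3 ≤ 3 by omega) y]
        exact emb_congr _ _ (funext fun a => Fin.ext (by simp [seg])) y
      rw [← hinv (pm F q 3 τ), ← hψd i hi]
      exact hK3' i hi _
    have key : ((σs i hi * c * (σs i hi)⁻¹ : alternatingGroup (Fin n)) : Perm (Fin n)) =
        adj i (by omega) * adj (i + 1) (by omega) ∨
        ((σs i hi * c * (σs i hi)⁻¹ : alternatingGroup (Fin n)) : Perm (Fin n))⁻¹ =
        adj i (by omega) * adj (i + 1) (by omega) := by
      have hs : ∀ s : Perm (Fin 3), (∀ a, s (a + 1) = s a + 1) ∨ ∀ a, s (a + 1) + 1 = s a := by decide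
      have hes := (seg_injective 0 (show 0 + 3 ≤ n by omega)).comp (ss i hi).symm.injective
      have hrange : ∀ x, x ∉ Set.range (fun a => i3 hn ((ss i hi).symm a)) → x ∉ Set.range (i3 hn) :=
        fun x hx ⟨a, ha⟩ => hx ⟨ss i hi a, by simp [ha]⟩
      rcases hs (ss i hi) with h | h
      · left
        simp only [Subgroup.coe_mul, Subgroup.coe_inv]
        refine three_cases _ _ i hi (e := fun a => i3 hn ((ss i hi).symm a))
          (fun a => by rw [hσs, Equiv.apply_symm_apply]) (fun a => ?_) (fun x hx => hc2 x (hrange x hx))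
        rw [hc1]
        congr 1
        apply (ss i hi).injective
        rw [h, Equiv.apply_symm_apply, Equiv.apply_symm_apply]
      · right
        simp only [Subgroup.coe_mul, Subgroup.coe_inv, _root_.mul_inv_rev, inv_inv, ← mul_assoc]
        refine three_cases _ _ i hi (e := fun a => i3 hn ((ss i hi).symm a))
          (fun a => by rw [hσs, Equiv.apply_symm_apply]) (fun a => ?_) (fun x hx => ?_)
        · rw [Perm.inv_eq_iff_eq, hc1]
          congr 1
          have h' := h ((ss i hi).symm (a + 1))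
          apply (ss i hi).injective
          rw [Equiv.apply_symm_apply]
          rw [Equiv.apply_symm_apply] at h'
          exact add_right_cancel h'.symm
        · rw [Perm.inv_eq_iff_eq]
          exact (hc2 x (hrange x hx)).symm
    rcases key with h | h
    · exact ⟨_, hmem, h⟩
    · refine ⟨(σs i hi * c * (σs i hi)⁻¹)⁻¹, inv_mem hmem, ?_⟩
      show ((((σs i hi * c * (σs i hi)⁻¹)⁻¹ : alternatingGroup (Fin n))) : Perm (Fin n)) = _
      rw [Subgroup.coe_inv]; exact h
  have hρK : ∀ σ, ρ σ ∈ K := fun σ => by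
    obtain ⟨σ', h', e⟩ := halt σ.2
    rw [show σ = σ' from Subtype.ext e.symm]
    exact h'
  have hMK : ∀ x, M x ∈ K := by
    have hb01 : ∀ y, M (b01 y) ∈ K := fun y => by
      rw [H.N_base]
      have : N hn ρ M (i2 hn) (seg_injective 0 _) = S.φ 0 := by
        simp only [S, dif_pos (show 0 + 2 ≤ n by omega)]
      exact hK2 0 (by omega) ⟨y, by rw [← this]⟩
    have := closure_blocks hF hq 3 (by omega) (K.comap M) fun i h y => by
      rw [Subgroup.mem_comap, bk, H.M_emb]
      rw [N_apply]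
      exact mul_mem (mul_mem (hρK _) (hb01 _)) (inv_mem (hρK _))
    intro x
    have hx : x ∈ K.comap M := this ▸ Subgroup.mem_top x
    exact hx
  rw [eq_top_iff, ← hgen, Subgroup.closure_le]
  rintro _ (⟨σ, rfl⟩ | ⟨x, rfl⟩)
  exacts [hρK σ, hMK x]

end Hyp

end CfsgLib.SUPresent
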