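import Cfsg.Agent.Lib.ClassicalGroups.UnitaryTwo
import Cfsg.Agent.Lib.SLTwoPresent.Target
import Cfsg.Agent.Lib.SLTwoPresent.Arith

/-!
`SL_2(q)`, hence `SU_2(q)`, is generated by two elements.
-/

set_option autoImplicit false
set_option linter.unusedSectionVars false

namespace CfsgLib.SUPresent

open Matrix CfsgLib.SLTwoPresent Polynomial

variable {K : Type*} [Field K] [Fintype K]

theorem sl_two_gen :
    ∃ a b : SpecialLinearGroup (Fin 2) K, Subgroup.closure ({a, b} : Set (SpecialLinearGroup (Fin 2) K)) = ⊤ := by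
  classical
  obtain ⟨p, hchar⟩ := CharP.exists K
  haveI : Fact p.Prime := ⟨CharP.char_is_prime K p⟩
  letI : Algebra (ZMod p) K := ZMod.algebra K p
  obtain ⟨g, hg⟩ := IsCyclic.exists_generator (α := Kˣ)
  set N := Nat.card Kˣ with hN
  have hNK : N = Fintype.card K - 1 := by rw [hN, Nat.card_units, Nat.card_eq_fintype_card]
  have hord : orderOf (g : K) = N := by rw [orderOf_units, orderOf_eq_card_of_forall_mem_zpowers hg]
  have hN0 : 0 < N := Nat.card_pos
  by_cases hN3 : N ≤ 2
  · -- the field is prime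
    refine ⟨uu 1, ww, eq_top_of_uu (fun t => ?_) (Subgroup.subset_closure (by simp))⟩
    have hsur : Function.Surjective (aeval (1 : K) : (ZMod p)[X] → K) :=
      surjective_of_orderOf (x := (1 : K)) (n := 1) orderOf_one one_pos (by omega)
    obtain ⟨Q, rfl⟩ := hsur t
    rw [show aeval (1 : K) Q = ((eval 1 Q).val : K) * 1 by
      rw [mul_one, show (1 : K) = algebraMap (ZMod p) K 1 from (map_one _).symm, aeval_algebraMap_apply,
        ← map_natCast (algebraMap (ZMod p) K), ZMod.natCast_zmod_val]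
      rfl, ← uu_pow]
    exact Subgroup.pow_mem _ (Subgroup.subset_closure (by simp)) _
  refine ⟨dd g, uu 1 * ww, ?_⟩
  set L := Subgroup.closure ({dd g, uu 1 * ww} : Set (SpecialLinearGroup (Fin 2) K))
  have hd : dd g ∈ L := Subgroup.subset_closure (by simp)
  have hb : uu 1 * ww ∈ L := Subgroup.subset_closure (by simp)
  set ω : K := (g : K) with hω
  have hω0 : ω ≠ 0 := g.ne_zero
  set c : K := ((ω ^ 2)⁻¹ - 1) with hc
  have hc0 : c ≠ 0 := by
    rw [hc, sub_ne_zero]
    intro e
    rw [inv_eq_one] at e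
    have := Nat.le_of_dvd (by norm_num) (hord ▸ orderOf_dvd_of_pow_eq_one e)
    omega
  have hcL : uu c ∈ L := by
    have h1 : dd g * (uu 1 * ww) * (dd g)⁻¹ * (uu 1 * ww)⁻¹ ∈ L :=
      mul_mem (mul_mem (mul_mem hd hb) (inv_mem hd)) (inv_mem hb)
    have e : dd g * (uu 1 * ww) * (dd g)⁻¹ * (uu 1 * ww)⁻¹ = dd g * dd g * uu c := by
      have hw' : (ww : SpecialLinearGroup (Fin 2) K) * (dd g)⁻¹ * ww⁻¹ = dd g := by
        rw [show (ww : SpecialLinearGroup (Fin 2) K) * (dd g)⁻¹ * ww⁻¹ = (ww * dd g * ww⁻¹)⁻¹ by group,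
          ww_conj, inv_inv]
      have h1 := dd_conj g⁻¹ (1 : K)
      rw [dd_inv, inv_inv, mul_one, Units.val_inv_eq_inv_val, inv_pow] at h1
      calc _ = dd g * uu 1 * (ww * (dd g)⁻¹ * ww⁻¹) * (uu (1 : K))⁻¹ := by group
        _ = dd g * dd g * ((dd g)⁻¹ * uu 1 * dd g) * (uu (1 : K))⁻¹ := by rw [hw']; group
        _ = _ := by
          rw [h1, show (uu (1 : K))⁻¹ = uu (-1) from inv_eq_of_mul_eq_one_right (by
            rw [← uu_add, add_neg_cancel, uu_zero]), mul_assoc, ← uu_add, hc, sub_eq_add_neg]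
    rw [e] at h1
    exact (mul_mem_cancel_left (mul_mem hd hd)).1 h1
  have hsur : Function.Surjective (aeval (ω ^ 2) : (ZMod p)[X] → K) := by
    rcases Nat.even_or_odd N with ⟨k, hk⟩ | hodd
    · refine surjective_of_orderOf (n := k) ?_ (by omega) (by omega)
      rw [orderOf_pow' _ (by norm_num), hord, hk, ← two_mul, Nat.gcd_mul_right_left,
        Nat.mul_div_cancel_left _ two_pos]
    · refine surjective_of_orderOf (n := N) ?_ hN0 (by omega)
      rw [orderOf_pow' _ (by norm_num), hord, Nat.coprime_iff_gcd_eq_one.1 (Nat.coprime_two_right.2 hodd),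
        Nat.div_one]
  have hall : ∀ t, uu t ∈ L := by
    intro t
    obtain ⟨Q, hQ⟩ := hsur (t / c)
    have := word_eq (LinearMap.mulLeft (ZMod p) (ω ^ 2)) (fun t => uu t) uu_add (dd g)
      (fun t => dd_conj g t) c Q
    rw [show LinearMap.mulLeft (ZMod p) (ω ^ 2) = Algebra.lmul (ZMod p) K (ω ^ 2) from rfl,
      aeval_algHom_apply, hQ] at this
    simp only [Algebra.coe_lmul_eq_mul, LinearMap.mul_apply', div_mul_cancel₀ _ hc0] at this
    rw [← this]
    refine Subgroup.list_prod_mem _ fun a ha => ?_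
    obtain ⟨i, -, rfl⟩ := List.mem_map.1 ha
    exact L.pow_mem (mul_mem (mul_mem (L.pow_mem hd _) hcL) (inv_mem (L.pow_mem hd _))) _
  refine eq_top_of_uu hall ?_
  exact (mul_mem_cancel_left (hall 1)).1 hb

theorem su_two_gen {F : Type*} [Field F] [Fintype F] {q : ℕ} (hF : Fintype.card F = q ^ 2) :
    ∃ X : Fin 2 → Cfsg.SU 2 F q, Subgroup.closure (Set.range X) = ⊤ := by
  classical
  obtain ⟨p, _, n, hp, hn⟩ := FiniteField.card' F
  obtain ⟨f, -, rfl⟩ := (Nat.dvd_prime_pow hp).1 (show q ∣ p ^ (n : ℕ) by rw [← hn, hF]; exact dvd_pow_self q two_ne_zero)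
  haveI : Fact p.Prime := ⟨hp⟩
  have hf : f ≠ 0 := fun h => by
    subst h
    have := Fintype.one_lt_card (α := F)
    rw [hF] at this
    simp at this
  haveI : Fintype (GaloisField p f) := Fintype.ofFinite _
  obtain ⟨e⟩ := CfsgLib.ClassicalGroups.su_two_equiv_sl (K := GaloisField p f) hF
    (by rw [← Nat.card_eq_fintype_card]; exact GaloisField.card p f hf)
  obtain ⟨a, b, hab⟩ := sl_two_gen (K := GaloisField p f)
  refine ⟨![e.symm a, e.symm b], ?_⟩
  have := congrArg (Subgroup.map e.symm.toMonoidHom) hab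
  rw [MonoidHom.map_closure, Subgroup.map_top_of_surjective _ e.symm.surjective, Set.image_pair] at this
  rwa [Matrix.range_cons_cons_empty]

end CfsgLib.SUPresent
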