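import Cfsg.Agent.Lib.SUPresent.Core
import Cfsg.Agent.Lib.SUPresent.SUTwo
import Cfsg.Agent.Lib.SymPresent.Tietze

/-!
Reducing the compatibilities to relations on generators, and the target group.
-/

set_option autoImplicit false
set_option linter.unusedSectionVars false

namespace CfsgLib.SUPresent

open Matrix Equiv CfsgLib.Phan CfsgLib.ClassicalGroups CfsgLib.SymPresent

variable {F : Type*} [Field F] [Fintype F] {q n : ℕ}

theorem emb_self {k : ℕ} {e : Fin k → Fin k} (he : Function.Injective e) (h : ∀ a, e a = a)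
    (x : Cfsg.SU k F q) : emb e he x = x := by
  conv_rhs => rw [← bk_self (show 0 + k ≤ k by omega) x]
  exact emb_congr _ _ (funext fun a => Fin.ext (by simp [seg, h])) x

theorem surj_two {t : Fin 2 → Fin 2} (ht : Function.Injective t) : Function.Surjective t :=
  Finite.surjective_of_injective ht

theorem mem_stab2 (hn : 4 ≤ n) {σ : alternatingGroup (Fin n)} {t : Fin 2 → Fin 2}
    (ht : Function.Injective t) (h : ∀ a, (σ : Perm (Fin n)) (i2 hn a) = i2 hn (t a)) : σ ∈ stab2 n := by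
  intro x
  constructor
  · intro hx
    rw [show x = i2 hn ⟨x, hx⟩ from Fin.ext (by simp [i2, seg]), h]
    simp only [i2, seg]; omega
  · intro hx
    obtain ⟨a, ha⟩ := surj_two ht ⟨_, hx⟩
    have e : (σ : Perm (Fin n)) (i2 hn a) = (σ : Perm (Fin n)) x := by
      rw [h, ha]; exact Fin.ext (by simp [i2, seg])
    rw [← (σ : Perm (Fin n)).injective e]
    simp only [i2, seg]; omega

/-- The relations on generators give the stabiliser compatibility. -/
theorem hst_of_gens {G : Type*} [Group G] (hn : 4 ≤ n) (ρ : alternatingGroup (Fin n) →* G)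
    (M : Cfsg.SU 3 F q →* G) {X : Fin 2 → Cfsg.SU 2 F q} (hX : Subgroup.closure (Set.range X) = ⊤)
    (T : Set (alternatingGroup (Fin n))) (hT : stab2 n ≤ Subgroup.closure T)
    (hrel : ∀ τ ∈ T, ∃ (t : Fin 2 → Fin 2) (ht : Function.Injective t),
      (∀ a, (τ : Perm (Fin n)) (i2 hn a) = i2 hn (t a)) ∧
      ∀ k, ρ τ * M (b01 (X k)) * (ρ τ)⁻¹ = M (b01 (emb t ht (X k))))
    (σ : alternatingGroup (Fin n)) (t : Fin 2 → Fin 2) (ht : Function.Injective t)
    (h : ∀ a, (σ : Perm (Fin n)) (i2 hn a) = i2 hn (t a)) (x : Cfsg.SU 2 F q) :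
    ρ σ * M (b01 x) * (ρ σ)⁻¹ = M (b01 (emb t ht x)) := by
  classical
  let S : Subgroup (alternatingGroup (Fin n)) :=
    { carrier := {σ | ∃ (t : Fin 2 → Fin 2) (ht : Function.Injective t),
        (∀ a, (σ : Perm (Fin n)) (i2 hn a) = i2 hn (t a)) ∧
        ∀ x, ρ σ * M (b01 x) * (ρ σ)⁻¹ = M (b01 (emb t ht x))}
      one_mem' := ⟨id, Function.injective_id, fun a => rfl, fun x => by
        rw [map_one, one_mul, inv_one, mul_one, emb_self Function.injective_id fun a => rfl]⟩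
      mul_mem' := fun {σ σ'} ⟨t, ht, h, hx⟩ ⟨t', ht', h', hx'⟩ => ⟨t ∘ t', ht.comp ht', fun a => by
        rw [Subgroup.coe_mul, Perm.mul_apply, h', h, Function.comp_apply], fun x => by
        rw [map_mul, show ρ σ * ρ σ' * M (b01 x) * (ρ σ * ρ σ')⁻¹ =
          ρ σ * (ρ σ' * M (b01 x) * (ρ σ')⁻¹) * (ρ σ)⁻¹ by group, hx', hx, emb_comp]
        rfl⟩
      inv_mem' := fun {σ} ⟨t, ht, h, hx⟩ => by
        let e := Equiv.ofBijective t ⟨ht, surj_two ht⟩
        have he : ∀ a, t (e.symm a) = a := e.apply_symm_apply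
        refine ⟨e.symm, e.symm.injective, fun a => ?_, fun x => ?_⟩
        · rw [Subgroup.coe_inv, Perm.inv_eq_iff_eq, h, he]
        · have := hx (emb e.symm e.symm.injective x)
          rw [emb_comp, emb_self (e := fun a => t (e.symm a)) _ he] at this
          rw [map_inv, inv_inv, ← this]
          group }
  have hTS : T ⊆ S := by
    intro τ hτ
    obtain ⟨t, ht, h, hx⟩ := hrel τ hτ
    refine ⟨t, ht, h, fun x => ?_⟩
    exact DFunLike.congr_fun (MonoidHom.eq_of_eqOn_dense hX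
      (f := ((MulAut.conj (ρ τ)).toMonoidHom.comp (M.comp b01))) (g := (M.comp b01).comp (emb t ht))
      (by rintro _ ⟨k, rfl⟩; exact hx k)) x
  obtain ⟨t', ht', h', hx'⟩ := ((Subgroup.closure_le S).2 hTS) (hT (mem_stab2 hn ht h))
  have e : t = t' := funext fun a => seg_injective 0 (show 0 + 2 ≤ n by omega) ((h a).symm.trans (h' a))
  subst e
  exact hx' x

/-- The relations on generators give the commutation of the disjoint pairs. -/
theorem hcomm_of_gens {G : Type*} [Group G] {g : G} (hg : g * g = 1) (N0 : Cfsg.SU 2 F q →* G)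
    {X : Fin 2 → Cfsg.SU 2 F q} (hX : Subgroup.closure (Set.range X) = ⊤)
    (h00 : Commute (N0 (X 0)) (g * N0 (X 0) * g⁻¹)) (h01 : Commute (N0 (X 0)) (g * N0 (X 1) * g⁻¹))
    (h11 : Commute (N0 (X 1)) (g * N0 (X 1) * g⁻¹)) (x y : Cfsg.SU 2 F q) :
    Commute (N0 x) (g * N0 y * g⁻¹) := by
  have h10 : Commute (N0 (X 1)) (g * N0 (X 0) * g⁻¹) := by
    have h := h01.map (MulAut.conj g).toMonoidHom
    simp only [MulEquiv.coe_toMonoidHom, MulAut.conj_apply] at h
    rw [show g * (g * N0 (X 1) * g⁻¹) * g⁻¹ = (g * g) * N0 (X 1) * (g * g)⁻¹ by group, hg, one_mul, inv_one,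
      mul_one] at h
    exact h.symm
  have hk : ∀ k l, Commute (N0 (X k)) (g * N0 (X l) * g⁻¹) := fun k l => by
    fin_cases k <;> fin_cases l
    exacts [h00, h01, h10, h11]
  let f := (MulAut.conj g).toMonoidHom.comp N0
  have h1 : ∀ l x, Commute (N0 x) (f (X l)) := fun l x => by
    have hle : (⊤ : Subgroup (Cfsg.SU 2 F q)) ≤ (Subgroup.centralizer {f (X l)}).comap N0 := by
      rw [← hX, Subgroup.closure_le]
      rintro _ ⟨k, rfl⟩
      rw [SetLike.mem_coe, Subgroup.mem_comap, Subgroup.mem_centralizer_singleton_iff]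
      exact (hk k l).eq
    exact Subgroup.mem_centralizer_singleton_iff.1 (Subgroup.mem_comap.1 (hle (Subgroup.mem_top x)))
  have hle : (⊤ : Subgroup (Cfsg.SU 2 F q)) ≤ (Subgroup.centralizer {N0 x}).comap f := by
    rw [← hX, Subgroup.closure_le]
    rintro _ ⟨l, rfl⟩
    rw [SetLike.mem_coe, Subgroup.mem_comap, Subgroup.mem_centralizer_singleton_iff]
    exact (h1 l x).eq.symm
  exact (Subgroup.mem_centralizer_singleton_iff.1 (Subgroup.mem_comap.1 (hle (Subgroup.mem_top y))) :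
    f y * N0 x = N0 x * f y).symm

/-- The three-cycle compatibility from one relation. -/
theorem hc_of_gen {G : Type*} [Group G] (hn : 4 ≤ n) (ρ : alternatingGroup (Fin n) →* G)
    (M : Cfsg.SU 3 F q →* G) {c : alternatingGroup (Fin n)} {τ₀ : alternatingGroup (Fin 3)}
    (hτ₀ : (τ₀ : Perm (Fin 3)) = finRotate 3)
    (h1 : ∀ a, (c : Perm (Fin n)) (i3 hn a) = i3 hn ((τ₀ : Perm (Fin 3)) a))
    (h2 : ∀ x, x ∉ Set.range (i3 hn) → (c : Perm (Fin n)) x = x) (hrel : ρ c = M (pm F q 3 τ₀))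
    (σ : alternatingGroup (Fin n)) (τ : alternatingGroup (Fin 3))
    (hσ : ∀ a, (σ : Perm (Fin n)) (i3 hn a) = i3 hn ((τ : Perm (Fin 3)) a))
    (hσ' : ∀ x, x ∉ Set.range (i3 hn) → (σ : Perm (Fin n)) x = x) : ρ σ = M (pm F q 3 τ) := by
  have hall : ∀ π : alternatingGroup (Fin 3), ∃ k : Fin 3, (π : Perm (Fin 3)) = finRotate 3 ^ (k : ℕ) := by
    decide
  obtain ⟨k, hk⟩ := hall τ
  have hτk : τ = τ₀ ^ (k : ℕ) := Subtype.ext (by rw [Subgroup.coe_pow, hτ₀, hk])
  have hck : ∀ m : ℕ, (∀ a, ((c ^ m : alternatingGroup (Fin n)) : Perm (Fin n)) (i3 hn a) =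
      i3 hn (((τ₀ ^ m : alternatingGroup (Fin 3)) : Perm (Fin 3)) a)) ∧
      ∀ x, x ∉ Set.range (i3 hn) → ((c ^ m : alternatingGroup (Fin n)) : Perm (Fin n)) x = x := fun m => by
    induction m with
    | zero => exact ⟨fun a => rfl, fun x _ => rfl⟩
    | succ m ih =>
      exact ⟨fun a => by rw [pow_succ', pow_succ', Subgroup.coe_mul, Subgroup.coe_mul, Perm.mul_apply,
        Perm.mul_apply, ih.1, h1], fun x hx => by
        rw [pow_succ', Subgroup.coe_mul, Perm.mul_apply, ih.2 x hx, h2 x hx]⟩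
  have e : σ = c ^ (k : ℕ) := Subtype.ext (Equiv.ext fun x => by
    by_cases hx : x ∈ Set.range (i3 hn)
    · obtain ⟨a, rfl⟩ := hx
      rw [hσ, (hck k).1, hτk]
    · rw [hσ' x hx, (hck k).2 x hx])
  rw [e, hτk, map_pow, map_pow, map_pow, hrel]

/-- The standard group satisfies the compatibilities. -/
theorem hyp_std (hn : 4 ≤ n) :
    Hyp (F := F) (q := q) hn (pm F q n) (bk 0 (show 0 + 3 ≤ n by omega)) := by
  have hb : ∀ x, bk 0 (show 0 + 3 ≤ n by omega) (b01 x) = bk (F := F) (q := q) 0 (show 0 + 2 ≤ n by omega) x :=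
    fun x => bk_bk 0 0 _ _ (by omega) x
  refine ⟨fun σ τ h h' => pm_eq_emb σ τ (seg_injective 0 _) h h', fun σ t ht h x => ?_, ?_⟩
  · rw [hb, hb, bk, pm_conj σ _ ((seg_injective 0 (show 0 + 2 ≤ n by omega)).comp ht) h, emb_comp]
    rfl
  · obtain ⟨σ, hσ⟩ := exists_even_free (seg_injective 0 (show 0 + 2 ≤ n by omega))
      (seg_injective 2 (show 2 + 2 ≤ n by omega)) hn
    refine ⟨σ, hσ, fun x y => ?_⟩
    rw [hb, hb, show pm F q n σ * bk 0 (show 0 + 2 ≤ n by omega) y * (pm F q n σ)⁻¹ =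
      bk 2 (show 2 + 2 ≤ n by omega) y from pm_conj σ _ (seg_injective 2 _) hσ y]
    exact bk_commute _ _ (by omega) x y

/-- The standard generation. -/
theorem std_gen (hF : Fintype.card F = q ^ 2) (hq : 3 ≤ q) (hn : 4 ≤ n) :
    Subgroup.closure (Set.range (pm F q n) ∪
      Set.range (bk (F := F) (q := q) 0 (show 0 + 3 ≤ n by omega))) = ⊤ := by
  refine closure_blocks hF hq n (by omega) _ fun i h x => ?_
  obtain ⟨σ, hσ⟩ := exists_even_free (seg_injective 0 (show 0 + 2 ≤ n by omega)) (seg_injective i h) hn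
  show emb (seg i h) (seg_injective i h) x ∈ _
  rw [← pm_conj σ (seg_injective 0 (show 0 + 2 ≤ n by omega)) (seg_injective i h) hσ x]
  have hm : emb (seg 0 (show 0 + 2 ≤ n by omega)) (seg_injective 0 _) x =
      bk 0 (show 0 + 3 ≤ n by omega) (b01 x) := (bk_bk 0 0 _ _ (by omega) x).symm
  rw [hm]
  exact mul_mem (mul_mem (Subgroup.subset_closure (Or.inl ⟨σ, rfl⟩))
    (Subgroup.subset_closure (Or.inr ⟨_, rfl⟩))) (inv_mem (Subgroup.subset_closure (Or.inl ⟨σ, rfl⟩)))

/-- Maps out of a presented group. -/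
theorem exists_hom_of_pres {ι : Type} {H : Type*} [Group H] {v : ι → H} {r : ℕ} (h : HasPres v r) :
    ∃ R : Finset (FreeGroup ι), R.card ≤ r ∧ (∀ x ∈ R, FreeGroup.lift v x = 1) ∧
      ∀ {G : Type} [Group G] (f : FreeGroup ι →* G), (∀ x ∈ R, f x = 1) →
        ∃ ρ : H →* G, ∀ x, ρ (FreeGroup.lift v x) = f x := by
  obtain ⟨R, hR, e, he⟩ := h
  refine ⟨R, hR, fun x hx => by
    rw [HasPres.lift_eq e he, PresentedGroup.one_of_mem (Finset.mem_coe.2 hx), map_one], fun {G} _ f hf => ?_⟩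
  have hlift : FreeGroup.lift (fun i => f (FreeGroup.of i)) = f := FreeGroup.ext_hom _ _ (by simp)
  let φ : PresentedGroup (↑R : Set (FreeGroup ι)) →* G :=
    PresentedGroup.toGroup (f := fun i => f (FreeGroup.of i)) fun x hx => by rw [hlift]; exact hf x hx
  refine ⟨φ.comp e.symm.toMonoidHom, fun x => ?_⟩
  rw [HasPres.lift_eq e he]
  show φ (e.symm (e _)) = _
  rw [e.symm_apply_apply]
  conv_rhs => rw [← hlift]
  exact DFunLike.congr_fun (FreeGroup.ext_hom (φ.comp (PresentedGroup.mk _))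
    (FreeGroup.lift fun i => f (FreeGroup.of i)) fun i => by
      show φ (PresentedGroup.of i) = _
      simp [φ]) x

/-- Relabelling the generators. -/
theorem hasPres_reindex {ι κ : Type} {H : Type*} [Group H] {v : ι → H} {r : ℕ} (h : HasPres v r)
    (e : ι ≃ κ) : HasPres (fun j => v (e.symm j)) r := by
  have := h.change (fun j => v (e.symm j)) ∅ (fun i => FreeGroup.of (e i)) (fun i => by simp)
    (fun j => FreeGroup.of (e.symm j)) (fun j => by simp) (fun j _ => by simp)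
  simpa using this

end CfsgLib.SUPresent
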