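import Cfsg.Agent.Lib.SUPresent.GenThree
import Cfsg.Agent.Lib.SUPresent.Glue
import Cfsg.Agent.Lib.Phan.TwoChain

/-!
A copy of the alternating group and a copy of `SU_4` glued along few compatibilities map onto a quotient of
`SU_n`, for the fields with four and nine elements.
-/

set_option autoImplicit false
set_option linter.unusedSectionVars false

namespace CfsgLib.SUPresent

open Matrix Equiv CfsgLib.Phan CfsgLib.ClassicalGroups

variable {F : Type*} [Field F] [Fintype F] {q n : ℕ} {G : Type*} [Group G]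

/-- The first three coordinates of four. -/
abbrev k3 : Fin 3 → Fin 4 := seg 0 (show 0 + 3 ≤ 4 by omega)

/-- The three-cycle on four points. -/
def c4 : alternatingGroup (Fin 4) :=
  ⟨swap 0 1 * swap 1 2, Perm.mem_alternatingGroup.2 (by decide)⟩

/-- The exchange of the two pairs of four points. -/
def s4 : alternatingGroup (Fin 4) :=
  ⟨swap 0 2 * swap 1 3, Perm.mem_alternatingGroup.2 (by decide)⟩

/-- The reversal of four points. -/
def h4 : alternatingGroup (Fin 4) := c4 * c4 * s4 * c4⁻¹ * c4⁻¹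

theorem h4_spec : ∀ a : Fin 3, (h4 : Perm (Fin 4)) (k3 a) = seg 1 (show 1 + 3 ≤ 4 by omega) (Equiv.swap 0 2 a) := by
  unfold h4 k3 seg c4 s4
  decide

theorem c4_spec : ∀ a : Fin 2, (c4 : Perm (Fin 4)) (seg 0 (show 0 + 2 ≤ 4 by omega) a) =
    seg 1 (show 1 + 2 ≤ 4 by omega) a := by
  unfold seg c4
  decide

theorem s4_spec : ∀ a : Fin 2, (s4 : Perm (Fin 4)) (seg 0 (show 0 + 2 ≤ 4 by omega) a) =
    seg 2 (show 2 + 2 ≤ 4 by omega) a := by
  unfold seg s4
  decide

/-- Agreement of a permutation of `n` points with one of four points through the two copies. -/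
def Agree (hn : 4 ≤ n) (ρ : alternatingGroup (Fin n) →* G) (F4 : Cfsg.SU 4 F q →* G)
    (σ : alternatingGroup (Fin n)) (τ : alternatingGroup (Fin 4)) : Prop :=
  (∀ a, (σ : Perm (Fin n)) (i4 hn a) = i4 hn ((τ : Perm (Fin 4)) a)) ∧ ρ σ = F4 (pm F q 4 τ)

theorem Agree.mul {hn : 4 ≤ n} {ρ : alternatingGroup (Fin n) →* G} {F4 : Cfsg.SU 4 F q →* G}
    {σ σ' : alternatingGroup (Fin n)} {τ τ' : alternatingGroup (Fin 4)} (h : Agree hn ρ F4 σ τ)
    (h' : Agree hn ρ F4 σ' τ') : Agree hn ρ F4 (σ * σ') (τ * τ') :=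
  ⟨fun a => by rw [Subgroup.coe_mul, Perm.mul_apply, h'.1, h.1, Subgroup.coe_mul, Perm.mul_apply],
    by rw [map_mul, map_mul, map_mul, h.2, h'.2]⟩

theorem Agree.inv {hn : 4 ≤ n} {ρ : alternatingGroup (Fin n) →* G} {F4 : Cfsg.SU 4 F q →* G}
    {σ : alternatingGroup (Fin n)} {τ : alternatingGroup (Fin 4)} (h : Agree hn ρ F4 σ τ) :
    Agree hn ρ F4 σ⁻¹ τ⁻¹ :=
  ⟨fun a => by
      rw [Subgroup.coe_inv, Perm.inv_eq_iff_eq, h.1, Subgroup.coe_inv, apply_inv],
    by rw [map_inv, map_inv, map_inv, h.2]⟩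

/-- The compatibilities of a copy of `SU_4`. -/
structure Hyp4 (hn : 4 ≤ n) (ρ : alternatingGroup (Fin n) →* G) (F4 : Cfsg.SU 4 F q →* G) : Prop where
  base : Hyp hn ρ (F4.comp (bk 0 (show 0 + 3 ≤ 4 by omega)))
  hca : ∃ c, Agree hn ρ F4 c c4
  hsa : ∃ σ, Agree hn ρ F4 σ s4

theorem comp_i4 (hn : 4 ≤ n) (σ : alternatingGroup (Fin n)) (τ : alternatingGroup (Fin 4))
    (h : ∀ a, (σ : Perm (Fin n)) (i4 hn a) = i4 hn ((τ : Perm (Fin 4)) a)) {k i : ℕ} (hk : 0 + k ≤ 4)
    (hi : i + k ≤ 4) (u : Fin k → Fin k) (hτ : ∀ a, (τ : Perm (Fin 4)) (seg 0 hk a) = seg i hi (u a)) (a : Fin k) :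
    (σ : Perm (Fin n)) (seg 0 (show 0 + k ≤ n by omega) a) = seg i (show i + k ≤ n by omega) (u a) := by
  rw [← seg_i4 hn 0 hk, h, hτ, seg_i4]

namespace Hyp4

variable {hn : 4 ≤ n} {ρ : alternatingGroup (Fin n) →* G} {F4 : Cfsg.SU 4 F q →* G}
  (H : Hyp4 (F := F) (q := q) hn ρ F4)
include H

/-- The pair blocks inside the copy of `SU_4`. -/
theorem F4_pair (k : ℕ) (hk : k + 2 ≤ 4) (x : Cfsg.SU 2 F q) :
    F4 (bk k hk x) = Hyp.N hn ρ (F4.comp (bk 0 (show 0 + 3 ≤ 4 by omega)))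
      (seg k (show k + 2 ≤ n by omega)) (seg_injective _ _) x := by
  have h2 : (0 : ℕ) + 2 ≤ 4 := by omega
  have h0 : F4 (bk 0 h2 x) = F4.comp (bk 0 (show 0 + 3 ≤ 4 by omega)) (b01 x) := by
    rw [MonoidHom.comp_apply, b01, bk_bk 0 0 _ _ (by omega)]
  have key : ∀ (σ : alternatingGroup (Fin n)) (τ : alternatingGroup (Fin 4)), Agree hn ρ F4 σ τ →
      (∀ a, (τ : Perm (Fin 4)) (seg 0 h2 a) = seg k hk a) →
      F4 (bk k hk x) = Hyp.N hn ρ (F4.comp (bk 0 (show 0 + 3 ≤ 4 by omega)))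
        (seg k (show k + 2 ≤ n by omega)) (seg_injective _ _) x := by
    intro σ τ h hτ
    rw [← H.base.N_eq (seg_injective k (show k + 2 ≤ n by omega)) σ
      (fun a => comp_i4 hn σ τ h.1 h2 hk id hτ a) x, ← h0, h.2, bk, bk,
      ← pm_conj τ (seg_injective 0 h2) (seg_injective k hk) hτ x, map_mul, map_mul, map_inv]
  rcases (show k = 0 ∨ k = 1 ∨ k = 2 by omega) with rfl | rfl | rfl
  · rw [h0]; exact H.base.N_base x
  · obtain ⟨c, hc⟩ := H.hca
    exact key c c4 hc c4_spec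
  · obtain ⟨σ, hσ⟩ := H.hsa
    exact key σ s4 hσ s4_spec

end Hyp4

/-- An even permutation sending the first four points to consecutive ones. -/
theorem exists_shift (hn : 5 ≤ n) (i : ℕ) (hi : i + 4 ≤ n) :
    ∃ g : alternatingGroup (Fin n), ∀ a, (g : Perm (Fin n)) (i4 (show 4 ≤ n by omega) a) = seg i hi a := by
  rcases hn.eq_or_lt with rfl | h6
  · rcases (show i = 0 ∨ i = 1 by omega) with rfl | rfl
    · exact ⟨1, fun a => Fin.ext (by simp [i4, seg])⟩
    · refine ⟨⟨finRotate 5, Perm.mem_alternatingGroup.2 (by decide)⟩, fun a => ?_⟩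
      rw [show (((⟨finRotate 5, _⟩ : alternatingGroup (Fin 5))) : Perm (Fin 5)) = finRotate 5 from rfl,
        finRotate_apply]
      exact Fin.ext (by simp [i4, seg, Fin.val_add]; omega)
  · exact exists_even_free (seg_injective 0 (show 0 + 4 ≤ n by omega)) (seg_injective i hi) (by omega)

/-- The completion over the field with nine elements. -/
theorem Hyp4.exists_surjective_three {ρ : alternatingGroup (Fin n) →* G} {F4 : Cfsg.SU 4 F q →* G}
    (hn : 5 ≤ n) (H : Hyp4 (F := F) (q := q) (show 4 ≤ n by omega) ρ F4) (hF : Fintype.card F = q ^ 2)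
    (hq : 3 ≤ q) (hgen : Subgroup.closure (Set.range ρ ∪ Set.range F4) = ⊤) :
    ∃ f : Cfsg.SU n F q →* G, Function.Surjective f := by
  set M := F4.comp (bk 0 (show 0 + 3 ≤ 4 by omega)) with hM
  refine H.base.exists_surjective hF hq (Or.inr fun i hi => ?_) ?_
  · obtain ⟨g, hg⟩ := exists_shift hn i hi
    refine ⟨(MulAut.conj (ρ g)).toMonoidHom.comp F4, fun k hk x => ?_⟩
    show ρ g * F4 (bk k hk x) * (ρ g)⁻¹ = _
    rw [H.F4_pair]
    refine H.base.N_move _ _ g (fun a => ?_) x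
    rw [← seg_i4 (show 4 ≤ n by omega) k hk, hg]
    exact Fin.ext (by simp [seg]; omega)
  · rw [eq_top_iff, ← hgen, Subgroup.closure_le]
    rintro _ (⟨σ, rfl⟩ | ⟨y, rfl⟩)
    · exact Subgroup.subset_closure (Or.inl ⟨σ, rfl⟩)
    · have hK := closure_blocks hF hq 4 (by omega)
        ((Subgroup.closure (Set.range ρ ∪ Set.range M)).comap F4) fun k hk x => by
          rw [Subgroup.mem_comap, H.F4_pair, Hyp.N_apply]
          exact mul_mem (mul_mem (Subgroup.subset_closure (Or.inl ⟨_, rfl⟩))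
            (Subgroup.subset_closure (Or.inr ⟨_, rfl⟩))) (inv_mem (Subgroup.subset_closure (Or.inl ⟨_, rfl⟩)))
      exact Subgroup.mem_comap.1 (hK ▸ Subgroup.mem_top y)

/-- The further compatibilities for the field with four elements. -/
structure Hyp2 (hn : 4 ≤ n) (ρ : alternatingGroup (Fin n) →* G) (F4 : Cfsg.SU 4 F q →* G) : Prop extends
    Hyp4 hn ρ F4 where
  h3 : ∀ (σ : alternatingGroup (Fin n)) (u : Fin 3 → Fin 3) (hu : Function.Injective u),
    (∀ a, (σ : Perm (Fin n)) (i3 hn a) = i3 hn (u a)) →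
    ∀ x, ρ σ * F4 (bk 0 (show 0 + 3 ≤ 4 by omega) x) * (ρ σ)⁻¹ =
      F4 (bk 0 (show 0 + 3 ≤ 4 by omega) (emb u hu x))
  hfar : ∀ (h5 : 3 + 2 ≤ n) x y, Commute (Hyp.N hn ρ (F4.comp (bk 0 (show 0 + 3 ≤ 4 by omega))) (seg 3 h5)
    (seg_injective _ _) x) (F4 (bk 0 (show 0 + 3 ≤ 4 by omega) y))
  hfar3 : ∀ (h6 : 3 + 3 ≤ n), ∃ (g : alternatingGroup (Fin n)) (u : Perm (Fin 3)),
    (∀ a, (g : Perm (Fin n)) (i3 hn a) = seg 3 h6 (u a)) ∧
    ∀ x y, Commute (F4 (bk 0 (show 0 + 3 ≤ 4 by omega) x))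
      (ρ g * F4 (bk 0 (show 0 + 3 ≤ 4 by omega) y) * (ρ g)⁻¹)

namespace Hyp2

/-- An even permutation carrying the first three points to given ones. -/
noncomputable def mover3 (hn : 5 ≤ n) (e : Fin 3 → Fin n) (he : Function.Injective e) :
    alternatingGroup (Fin n) :=
  (exists_even_free (seg_injective 0 (show 0 + 3 ≤ n by omega)) he hn).choose

theorem mover3_spec (hn : 5 ≤ n) (e : Fin 3 → Fin n) (he : Function.Injective e) (a : Fin 3) :
    (mover3 hn e he : Perm (Fin n)) (seg 0 (show 0 + 3 ≤ n by omega) a) = e a :=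
  (exists_even_free (seg_injective 0 (show 0 + 3 ≤ n by omega)) he hn).choose_spec a

/-- The triple blocks. -/
noncomputable def T3 (hn : 5 ≤ n) (ρ : alternatingGroup (Fin n) →* G) (F4 : Cfsg.SU 4 F q →* G)
    (e : Fin 3 → Fin n) (he : Function.Injective e) : Cfsg.SU 3 F q →* G :=
  (MulAut.conj (ρ (mover3 hn e he))).toMonoidHom.comp (F4.comp (bk 0 (show 0 + 3 ≤ 4 by omega)))

variable {h5 : 5 ≤ n} {ρ : alternatingGroup (Fin n) →* G} {F4 : Cfsg.SU 4 F q →* G}
  (H : Hyp2 (F := F) (q := q) (show 4 ≤ n by omega) ρ F4)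

theorem T3_apply (e : Fin 3 → Fin n) (he : Function.Injective e) (x : Cfsg.SU 3 F q) :
    T3 h5 ρ F4 e he x = ρ (mover3 h5 e he) * F4 (bk 0 (show 0 + 3 ≤ 4 by omega) x) * (ρ (mover3 h5 e he))⁻¹ :=
  rfl

theorem T3_congr {e e' : Fin 3 → Fin n} (he : Function.Injective e) (he' : Function.Injective e')
    (h : e = e') (x : Cfsg.SU 3 F q) : T3 h5 ρ F4 e he x = T3 h5 ρ F4 e' he' x := by
  subst h; rfl

include H

theorem T3_eq {e : Fin 3 → Fin n} (he : Function.Injective e) (σ : alternatingGroup (Fin n))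
    (h : ∀ a, (σ : Perm (Fin n)) (seg 0 (show 0 + 3 ≤ n by omega) a) = e a) (x : Cfsg.SU 3 F q) :
    ρ σ * F4 (bk 0 (show 0 + 3 ≤ 4 by omega) x) * (ρ σ)⁻¹ = T3 h5 ρ F4 e he x := by
  have hs := H.h3 ((mover3 h5 e he)⁻¹ * σ) id Function.injective_id (fun a => by
    rw [Subgroup.coe_mul, Perm.mul_apply, h, ← mover3_spec h5 e he a, Subgroup.coe_inv, inv_apply]
    rfl) x
  rw [emb_self Function.injective_id (fun a => rfl), map_mul, map_inv] at hs
  rw [T3_apply]
  conv_rhs => rw [← hs]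
  group

theorem T3_base (x : Cfsg.SU 3 F q) : F4 (bk 0 (show 0 + 3 ≤ 4 by omega) x) =
    T3 h5 ρ F4 (seg 0 (show 0 + 3 ≤ n by omega)) (seg_injective 0 _) x := by
  rw [← T3_eq (h5 := h5) H (seg_injective 0 (show 0 + 3 ≤ n by omega)) 1 (fun a => rfl), map_one, one_mul, inv_one,
    mul_one]

theorem T3_move {e e' : Fin 3 → Fin n} (he : Function.Injective e) (he' : Function.Injective e')
    (σ : alternatingGroup (Fin n)) (h : ∀ a, (σ : Perm (Fin n)) (e a) = e' a) (x : Cfsg.SU 3 F q) :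
    ρ σ * T3 h5 ρ F4 e he x * (ρ σ)⁻¹ = T3 h5 ρ F4 e' he' x := by
  rw [← T3_eq (h5 := h5) H he' (σ * mover3 h5 e he) (fun a => by
    rw [Subgroup.coe_mul, Perm.mul_apply, mover3_spec, h]), T3_apply, map_mul]
  group

theorem T3_comp {e : Fin 3 → Fin n} (he : Function.Injective e) (u : Fin 3 → Fin 3)
    (hu : Function.Injective u) (x : Cfsg.SU 3 F q) :
    T3 h5 ρ F4 (fun a => e (u a)) (he.comp hu) x = T3 h5 ρ F4 e he (emb u hu x) := by
  obtain ⟨σ, hσ⟩ := exists_even_free (seg_injective 0 (show 0 + 3 ≤ n by omega))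
    ((seg_injective 0 (show 0 + 3 ≤ n by omega)).comp hu) h5
  rw [← T3_eq (h5 := h5) H (e := fun a => e (u a)) (he.comp hu) (mover3 h5 e he * σ) (fun a => by
    rw [Subgroup.coe_mul, Perm.mul_apply, hσ]; exact mover3_spec h5 e he (u a)), T3_apply, ← H.h3 σ u hu hσ x,
    map_mul]
  group

/-- The pairs inside the triples. -/
theorem T3_pair {e : Fin 3 → Fin n} (he : Function.Injective e) (u : Fin 2 → Fin 3)
    (hu : Function.Injective u) (x : Cfsg.SU 2 F q) :
    T3 h5 ρ F4 e he (emb u hu x) =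
      Hyp.N (show 4 ≤ n by omega) ρ (F4.comp (bk 0 (show 0 + 3 ≤ 4 by omega))) (fun a => e (u a)) (he.comp hu) x := by
  have hb := H.base.M_emb u hu x
  rw [MonoidHom.comp_apply] at hb
  rw [T3_apply, hb]
  exact H.base.N_move _ _ (mover3 h5 e he) (fun a => mover3_spec h5 e he (u a)) x

/-- A pair and a triple without common point. -/
theorem T3_far {f : Fin 2 → Fin n} {e : Fin 3 → Fin n} (hf : Function.Injective f) (he : Function.Injective e)
    (hd : ∀ a b, f a ≠ e b) (x : Cfsg.SU 2 F q) (y : Cfsg.SU 3 F q) :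
    Commute (Hyp.N (show 4 ≤ n by omega) ρ (F4.comp (bk 0 (show 0 + 3 ≤ 4 by omega))) f hf x)
      (T3 h5 ρ F4 e he y) := by
  have h32 : (3 : ℕ) + 2 ≤ n := by omega
  have hbase : ∀ x y, Commute (Hyp.N (show 4 ≤ n by omega) ρ (F4.comp (bk 0 (show 0 + 3 ≤ 4 by omega)))
      (seg 3 h32) (seg_injective _ _) x) (T3 h5 ρ F4 (seg 0 (show 0 + 3 ≤ n by omega)) (seg_injective 0 _) y) :=
    fun x y => by rw [← T3_base (h5 := h5) H]; exact H.hfar h32 x y
  let d : Fin 5 → Fin n := ![e 0, e 1, e 2, f 0, f 1]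
  have hinj : Function.Injective d := by
    intro a b hab
    have e01 : e 0 ≠ e 1 := he.ne (by decide)
    have e02 : e 0 ≠ e 2 := he.ne (by decide)
    have e12 : e 1 ≠ e 2 := he.ne (by decide)
    have f01 : f 0 ≠ f 1 := hf.ne (by decide)
    fin_cases a <;> fin_cases b <;> simp [d] at hab ⊢ <;>
      first
        | exact (e01 hab).elim | exact (e01 hab.symm).elim | exact (e02 hab).elim | exact (e02 hab.symm).elim
        | exact (e12 hab).elim | exact (e12 hab.symm).elim | exact (f01 hab).elim | exact (f01 hab.symm).elim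
        | exact (hd _ _ hab).elim | exact (hd _ _ hab.symm).elim
  obtain ⟨σ, hσ⟩ := exists_even_ext (seg_injective 0 (show 0 + 5 ≤ n by omega)) hinj
    (show (3 : Fin 5) ≠ 4 by decide)
  have hs0 : ∀ a, seg 0 (show 0 + 3 ≤ n by omega) a = seg 0 (show 0 + 5 ≤ n by omega) (seg 0 (show 0 + 3 ≤ 5 by omega) a) :=
    fun a => Fin.ext (by simp [seg])
  have hs3 : ∀ a, seg 3 h32 a = seg 0 (show 0 + 5 ≤ n by omega) (seg 3 (show 3 + 2 ≤ 5 by omega) a) :=
    fun a => Fin.ext (by simp [seg])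
  have hgo : ∀ (f' : Fin 2 → Fin n) (hf' : Function.Injective f'),
      (∀ a, (σ : Perm (Fin n)) (seg 3 h32 a) = f' a) →
      (∀ a, (σ : Perm (Fin n)) (seg 0 (show 0 + 3 ≤ n by omega) a) = e a) →
      ∀ x, Commute (Hyp.N (show 4 ≤ n by omega) ρ (F4.comp (bk 0 (show 0 + 3 ≤ 4 by omega))) f' hf' x)
        (T3 h5 ρ F4 e he y) := fun f' hf' k3' k0 x => by
    have h := (hbase x y).map (MulAut.conj (ρ σ)).toMonoidHom
    simp only [MulEquiv.coe_toMonoidHom, MulAut.conj_apply] at h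
    rwa [H.base.N_move (seg_injective 3 _) hf' σ k3', T3_move (h5 := h5) H (seg_injective 0 _) he σ k0] at h
  rcases hσ with hσ | hσ
  · exact hgo f hf (fun a => by rw [hs3, hσ]; fin_cases a <;> rfl) (fun a => by rw [hs0, hσ]; fin_cases a <;> rfl) x
  · have hsw : Function.Injective (Equiv.swap (0 : Fin 2) 1) := (Equiv.swap _ _).injective
    have hx : x = emb (Equiv.swap (0 : Fin 2) 1) hsw (emb (Equiv.swap (0 : Fin 2) 1) hsw x) := by
      rw [emb_comp]
      exact (emb_self _ (fun a => by simp) x).symm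
    rw [hx, ← H.base.N_comp hf _ hsw]
    exact hgo _ (hf.comp hsw) (fun a => by rw [hs3, hσ]; fin_cases a <;> rfl)
      (fun a => by rw [hs0, hσ]; fin_cases a <;> rfl) _

/-- Two consecutive disjoint triples. -/
theorem T3_far3 (i : ℕ) (hi : i + 6 ≤ n) (x y : Cfsg.SU 3 F q) :
    Commute (T3 h5 ρ F4 (seg i (show i + 3 ≤ n by omega)) (seg_injective _ _) x)
      (T3 h5 ρ F4 (seg (i + 3) (show i + 3 + 3 ≤ n by omega)) (seg_injective _ _) y) := by
  obtain ⟨g, u, hg, hc⟩ := H.hfar3 (show 3 + 3 ≤ n by omega)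
  have hbase : ∀ x y, Commute (T3 h5 ρ F4 (seg 0 (show 0 + 3 ≤ n by omega)) (seg_injective 0 _) x)
      (T3 h5 ρ F4 (seg 3 (show 3 + 3 ≤ n by omega)) (seg_injective _ _) y) := fun x y => by
    have h := hc x (emb u.symm u.symm.injective y)
    rwa [T3_eq (h5 := h5) H (e := fun a => seg 3 (show 3 + 3 ≤ n by omega) (u a))
      ((seg_injective 3 (show 3 + 3 ≤ n by omega)).comp u.injective) g hg,
      T3_comp (h5 := h5) H (seg_injective 3 (show 3 + 3 ≤ n by omega)) u u.injective,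
      emb_comp, emb_self _ (fun a => u.apply_symm_apply a), T3_base (h5 := h5) H] at h
  obtain ⟨σ, hσ⟩ := exists_even_ext (seg_injective 0 (show 0 + 6 ≤ n by omega)) (seg_injective i hi)
    (show (0 : Fin 6) ≠ 1 by decide)
  have h0 : ∀ a, seg 0 (show 0 + 3 ≤ n by omega) a = seg 0 (show 0 + 6 ≤ n by omega) (seg 0 (show 0 + 3 ≤ 6 by omega) a) :=
    fun a => Fin.ext (by simp [seg])
  have h3 : ∀ a, seg 3 (show 3 + 3 ≤ n by omega) a = seg 0 (show 0 + 6 ≤ n by omega) (seg 3 (show 3 + 3 ≤ 6 by omega) a) :=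
    fun a => Fin.ext (by simp [seg])
  have hgo : ∀ (e : Fin 3 → Fin n) (he : Function.Injective e),
      (∀ a, (σ : Perm (Fin n)) (seg 0 (show 0 + 3 ≤ n by omega) a) = e a) →
      (∀ a, (σ : Perm (Fin n)) (seg 3 (show 3 + 3 ≤ n by omega) a) = seg (i + 3) (show i + 3 + 3 ≤ n by omega) a) →
      ∀ x, Commute (T3 h5 ρ F4 e he x)
        (T3 h5 ρ F4 (seg (i + 3) (show i + 3 + 3 ≤ n by omega)) (seg_injective _ _) y) := fun e he k0 k3' x => by
    have h := (hbase x y).map (MulAut.conj (ρ σ)).toMonoidHom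
    simp only [MulEquiv.coe_toMonoidHom, MulAut.conj_apply] at h
    rwa [T3_move (h5 := h5) H (seg_injective 0 _) he σ k0, T3_move (h5 := h5) H (seg_injective 3 _) (seg_injective _ _) σ k3'] at h
  rcases hσ with hσ | hσ
  · exact hgo _ (seg_injective _ _)
      (fun a => by rw [h0, hσ]; exact Fin.ext (by simp [seg]))
      (fun a => by rw [h3, hσ]; exact Fin.ext (by simp [seg]; omega)) x
  · have hsw : Function.Injective (Equiv.swap (0 : Fin 3) 1) := (Equiv.swap _ _).injective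
    have hx : x = emb (Equiv.swap (0 : Fin 3) 1) hsw (emb (Equiv.swap (0 : Fin 3) 1) hsw x) := by
      rw [emb_comp]
      exact (emb_self _ (fun a => by simp) x).symm
    rw [hx, ← T3_comp (h5 := h5) H (seg_injective i _) _ hsw]
    exact hgo _ ((seg_injective i _).comp hsw)
      (fun a => by rw [h0, hσ]; fin_cases a <;> exact Fin.ext (by simp [seg, Equiv.swap_apply_def]))
      (fun a => by rw [h3, hσ]; fin_cases a <;> exact Fin.ext (by simp [seg, Equiv.swap_apply_def]; try omega)) _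

end Hyp2

/-- The completion over the field with four elements. -/
theorem Hyp2.exists_surjective_two {ρ : alternatingGroup (Fin n) →* G} {F4 : Cfsg.SU 4 F 2 →* G}
    (hn : 5 ≤ n) (H : Hyp2 (F := F) (q := 2) (show 4 ≤ n by omega) ρ F4) (hF : Fintype.card F = 2 ^ 2)
    (hgen : Subgroup.closure (Set.range ρ ∪ Set.range F4) = ⊤) :
    ∃ f : Cfsg.SU n F 2 →* G, Function.Surjective f := by
  classical
  set T := fun (i : ℕ) (h : i + 3 ≤ n) => Hyp2.T3 hn ρ F4 (seg i h) (seg_injective i h) with hT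
  have hpair : ∀ i (h : i + 3 ≤ n) (j : ℕ) (hj : j + 2 ≤ 3) x, T i h (bk j hj x) =
      Hyp.N (show 4 ≤ n by omega) ρ (F4.comp (bk 0 (show 0 + 3 ≤ 4 by omega)))
        (seg (i + j) (show i + j + 2 ≤ n by omega)) (seg_injective _ _) x := fun i h j hj x => by
    rw [hT, bk, Hyp2.T3_pair (h5 := hn) H]
    exact Hyp.N_congr _ _ (funext fun a => Fin.ext (by simp [seg]; omega)) x
  let S : Two.Sys F G n :=
    { ψ := fun i => if h : i + 3 ≤ n then T i h else 1
      link := fun i h x => by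
        rw [dif_pos (show i + 3 ≤ n by omega), dif_pos (show i + 1 + 3 ≤ n by omega), b01, b12, hpair, hpair]
      far := fun i j hij hj x y => by
        rw [dif_pos (show i + 3 ≤ n by omega), dif_pos hj, b01, hpair]
        exact Hyp2.T3_far (h5 := hn) H _ _ (fun a b e => by
          have := congrArg Fin.val e
          simp only [seg] at this
          omega) x y
      far3 := fun i h x y => by
        rw [dif_pos (show i + 3 ≤ n by omega), dif_pos (show i + 3 + 3 ≤ n by omega)]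
        exact Hyp2.T3_far3 (h5 := hn) H i h x y
      four := fun i hi => by
        obtain ⟨g, hg⟩ := exists_shift hn i hi
        refine ⟨(MulAut.conj (ρ g)).toMonoidHom.comp F4, fun x => ?_, fun x => ?_⟩
        · rw [dif_pos (show i + 3 ≤ n by omega)]
          show ρ g * F4 (bk 0 _ x) * (ρ g)⁻¹ = _
          rw [Hyp2.T3_base (h5 := hn) H]
          refine Hyp2.T3_move (h5 := hn) H _ _ g (fun a => ?_) x
          rw [← seg_i4 (show 4 ≤ n by omega) 0 (show 0 + 3 ≤ 4 by omega), hg]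
          exact Fin.ext (by simp [seg])
        · rw [dif_pos (show i + 1 + 3 ≤ n by omega)]
          show ρ g * F4 (bk 1 _ x) * (ρ g)⁻¹ = _
          obtain ⟨c, hc⟩ := H.hca
          obtain ⟨σ, hσ⟩ := H.hsa
          have hh := (((hc.mul hc).mul hσ).mul hc.inv).mul hc.inv
          set hN := c * c * σ * c⁻¹ * c⁻¹ with hhN
          have hu := (Equiv.swap (0 : Fin 3) 2).injective
          have hN' : ∀ a, (hN : Perm (Fin n)) (seg 0 (show 0 + 3 ≤ n by omega) a) =
              seg 1 (show 1 + 3 ≤ n by omega) (Equiv.swap (0 : Fin 3) 2 a) := fun a =>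
            comp_i4 (show 4 ≤ n by omega) hN h4 hh.1 _ _ (Equiv.swap (0 : Fin 3) 2) h4_spec a
          obtain ⟨y, rfl⟩ : ∃ y, emb (Equiv.swap (0 : Fin 3) 2) hu y = x :=
            ⟨emb (Equiv.swap (0 : Fin 3) 2) hu x, by
              rw [emb_comp]; exact emb_self _ (fun a => by simp) x⟩
          have e1 : F4 (bk 1 (show 1 + 3 ≤ 4 by omega) (emb (Equiv.swap (0 : Fin 3) 2) hu y)) =
              Hyp2.T3 hn ρ F4 (seg 1 (show 1 + 3 ≤ n by omega)) (seg_injective _ _)
                (emb (Equiv.swap (0 : Fin 3) 2) hu y) := by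
            rw [← Hyp2.T3_comp (h5 := hn) H, ← Hyp2.T3_eq (h5 := hn) H (e := fun a =>
              seg 1 (show 1 + 3 ≤ n by omega) (Equiv.swap (0 : Fin 3) 2 a)) ((seg_injective 1 (show 1 + 3 ≤ n by omega)).comp hu) hN hN' y,
              hh.2, bk, emb_comp, ← pm_conj (e' := fun a => seg 1 (show 1 + 3 ≤ 4 by omega) (Equiv.swap (0 : Fin 3) 2 a)) h4
                (seg_injective 0 (show 0 + 3 ≤ 4 by omega)) ((seg_injective 1 (show 1 + 3 ≤ 4 by omega)).comp hu) h4_spec y, map_mul, map_mul, map_inv]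
            rfl
          rw [e1]
          refine Hyp2.T3_move (h5 := hn) H _ _ g (fun a => ?_) _
          rw [← seg_i4 (show 4 ≤ n by omega) 1 (show 1 + 3 ≤ 4 by omega), hg]
          exact Fin.ext (by simp [seg]; omega) }
  obtain ⟨f, hf⟩ := Two.exists_hom hF n (by omega) S
  refine ⟨f, ?_⟩
  rw [← MonoidHom.range_eq_top]
  have hTmem : ∀ i (h : i + 3 ≤ n) x, T i h x ∈ f.range := fun i h x => by
    refine ⟨bk i h x, (hf i h x).trans ?_⟩
    simp only [S]
    rw [dif_pos h]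
  obtain ⟨cc, τ, hτ, hρc, hc1, hc2⟩ := H.base.exists_cycle
  have halt : alternatingGroup (Fin n) ≤
      (f.range.comap ρ).map (alternatingGroup (Fin n)).subtype := by
    refine alt_le_of_adjacent _ (by rintro _ ⟨σ, -, rfl⟩; exact σ.2) fun i hi => ?_
    obtain ⟨g, hg⟩ : ∃ g : alternatingGroup (Fin n), ∀ a, (g : Perm (Fin n)) (seg 0 (show 0 + 3 ≤ n by omega) a) = seg i hi a :=
      ⟨_, Hyp2.mover3_spec hn (seg i hi) (seg_injective _ _)⟩
    refine ⟨g * cc * g⁻¹, ?_, ?_⟩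
    · show ρ (g * cc * g⁻¹) ∈ f.range
      rw [map_mul, map_mul, map_inv, hρc, MonoidHom.comp_apply, Hyp2.T3_eq (h5 := hn) H (seg_injective i hi) g hg]
      exact hTmem i hi _
    · show ((g * cc * g⁻¹ : alternatingGroup (Fin n)) : Perm (Fin n)) = _
      rw [Subgroup.coe_mul, Subgroup.coe_mul, Subgroup.coe_inv]
      exact three_cases _ _ i hi hg hc1 hc2
  have hρ : ∀ σ, ρ σ ∈ f.range := fun σ => by
    obtain ⟨σ', h', e⟩ := halt σ.2
    rw [show σ = σ' from Subtype.ext e.symm]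
    exact h'
  rw [eq_top_iff, ← hgen, Subgroup.closure_le]
  rintro _ (⟨σ, rfl⟩ | ⟨y, rfl⟩)
  · exact hρ σ
  · have hK := Two.closure_triples hF 4 (by omega) (f.range.comap F4) fun k hk x => by
      obtain ⟨f4, h40, h41⟩ := S.four 0 (by omega)
      rw [Subgroup.mem_comap]
      rcases (show k = 0 ∨ k = 1 by omega) with rfl | rfl
      · rw [Hyp2.T3_base (h5 := hn) H]
        exact hTmem 0 (by omega) x
      · obtain ⟨g, hg⟩ := exists_shift hn 0 (show 0 + 4 ≤ n by omega)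
        obtain ⟨c, hc⟩ := H.hca
        obtain ⟨σ, hσ⟩ := H.hsa
        have hh := (((hc.mul hc).mul hσ).mul hc.inv).mul hc.inv
        have hu := (Equiv.swap (0 : Fin 3) 2).injective
        obtain ⟨y, rfl⟩ : ∃ y, emb (Equiv.swap (0 : Fin 3) 2) hu y = x :=
          ⟨emb (Equiv.swap (0 : Fin 3) 2) hu x, by
            rw [emb_comp]; exact emb_self _ (fun a => by simp) x⟩
        have e1 : F4 (bk 1 hk (emb (Equiv.swap (0 : Fin 3) 2) hu y)) =
            F4 (pm F 2 4 h4) * F4 (bk 0 (show 0 + 3 ≤ 4 by omega) y) * (F4 (pm F 2 4 h4))⁻¹ := by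
          rw [← map_inv, ← map_mul, ← map_mul, bk, bk, emb_comp,
            pm_conj (e' := fun a => seg 1 hk (Equiv.swap (0 : Fin 3) 2 a)) h4 (seg_injective 0 (show 0 + 3 ≤ 4 by omega)) ((seg_injective 1 hk).comp hu) h4_spec y]
        rw [e1, show h4 = c4 * c4 * s4 * c4⁻¹ * c4⁻¹ from rfl, ← hh.2, Hyp2.T3_base (h5 := hn) H]
        exact mul_mem (mul_mem (hρ _) (hTmem 0 (by omega) _)) (inv_mem (hρ _))
    exact Subgroup.mem_comap.1 (hK ▸ Subgroup.mem_top y)

end CfsgLib.SUPresent
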