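import Cfsg.Agent.Lib.SUPresent.Perm

/-!
Generation of the alternating group by adjacent three-cycles, and two generators of the stabiliser of a pair.
-/

set_option autoImplicit false
set_option linter.unusedSectionVars false

namespace CfsgLib.SUPresent

open Equiv CfsgLib.Phan

variable {n : ℕ}

/-- The adjacent transposition. -/
def adj (i : ℕ) (h : i + 2 ≤ n) : Perm (Fin n) := swap ⟨i, by omega⟩ ⟨i + 1, by omega⟩

theorem adj_sign (i : ℕ) (h : i + 2 ≤ n) : Perm.sign (adj i h) = -1 :=
  Perm.sign_swap fun e => by have := congrArg Fin.val e; simp at this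

theorem adj_sq (i : ℕ) (h : i + 2 ≤ n) : adj i h * adj i h = 1 := Equiv.swap_mul_self _ _

/-- Adjacent three-cycles generate. -/
theorem alt_le_of_adjacent (K : Subgroup (Perm (Fin n))) (hK : K ≤ alternatingGroup (Fin n))
    (h : ∀ i (hi : i + 3 ≤ n), adj i (by omega) * adj (i + 1) (by omega) ∈ K) :
    alternatingGroup (Fin n) ≤ K := by
  rcases Nat.lt_or_ge n 2 with hn | hn
  · intro σ _
    haveI : Subsingleton (Fin n) := Fin.subsingleton_iff_le_one.2 (by omega)
    rw [Subsingleton.elim σ 1]; exact one_mem K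
  obtain ⟨m, rfl⟩ : ∃ m, n = m + 1 := ⟨n - 1, by omega⟩
  set s0 := adj (n := m + 1) 0 (by omega)
  have h0 : ∀ i (hi : i + 2 ≤ m + 1), adj i hi * s0 ∈ K := by
    intro i
    induction i with
    | zero => intro hi; rw [adj_sq]; exact one_mem K
    | succ i ih =>
      intro hi
      have h1 := inv_mem (h i (by omega))
      rw [_root_.mul_inv_rev, inv_eq_of_mul_eq_one_right (adj_sq i _),
        inv_eq_of_mul_eq_one_right (adj_sq (i + 1) _)] at h1
      have := mul_mem h1 (ih (by omega))
      rwa [mul_assoc, ← mul_assoc (adj i _) (adj i _), adj_sq, one_mul] at this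
  intro σ hσ
  have hmem : σ ∈ Submonoid.closure (Set.range fun i : Fin m => swap i.castSucc i.succ) := by
    rw [Equiv.Perm.mclosure_swap_castSucc_succ]; trivial
  suffices hP : σ ∈ K ∨ σ * s0 ∈ K by
    refine hP.resolve_right fun hc => ?_
    have := Perm.mem_alternatingGroup.1 (hK hc)
    rw [map_mul, Perm.mem_alternatingGroup.1 hσ, adj_sign] at this
    exact absurd this (by decide)
  clear hσ
  induction hmem using Submonoid.closure_induction_right with
  | one => exact Or.inl (one_mem K)
  | mul_right x _ y hy ih =>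
    obtain ⟨⟨i, hi⟩, rfl⟩ := hy
    have e : swap (⟨i, hi⟩ : Fin m).castSucc (⟨i, hi⟩ : Fin m).succ = adj (n := m + 1) i (by omega) := rfl
    dsimp only
    rw [e]
    rcases ih with ih | ih
    · exact Or.inr (by rw [mul_assoc]; exact mul_mem ih (h0 i (by omega)))
    · left
      have := mul_mem ih (inv_mem (h0 i (by omega)))
      rwa [_root_.mul_inv_rev, inv_eq_of_mul_eq_one_right (adj_sq i _),
        inv_eq_of_mul_eq_one_right (adj_sq 0 _), mul_assoc, ← mul_assoc s0 s0, adj_sq, one_mul] at this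

/-- An adjacent three-cycle conjugate. -/
theorem three_cases (σ c : Perm (Fin n)) (i : ℕ) (hi : i + 3 ≤ n) {e : Fin 3 → Fin n}
    (he : ∀ a, σ (e a) = seg i hi a) (hc : ∀ a, c (e a) = e (a + 1))
    (hout : ∀ x, x ∉ Set.range e → c x = x) :
    σ * c * σ⁻¹ = adj i (by omega) * adj (i + 1) (by omega) := by
  refine Equiv.ext fun y => ?_
  obtain ⟨x, rfl⟩ : ∃ x, σ x = y := ⟨_, apply_inv σ y⟩
  simp only [Perm.mul_apply, inv_apply]
  have he' := he
  by_cases hx : x ∈ Set.range e
  · obtain ⟨a, rfl⟩ := hx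
    rw [hc, he', he']
    fin_cases a <;> simp [adj, seg, Equiv.swap_apply_def, Fin.ext_iff] <;> first | omega | (split_ifs <;> simp_all <;> omega)
  · rw [hout x hx]
    have hne : ∀ j (h : j < n), i ≤ j → j < i + 3 → σ x ≠ ⟨j, h⟩ := fun j h h1 h2 e' => by
      apply hx
      refine ⟨⟨j - i, by omega⟩, σ.injective ?_⟩
      rw [he', e']
      exact Fin.ext (by simp [seg]; omega)
    rw [adj, adj, Equiv.swap_apply_of_ne_of_ne (hne (i + 1) (by omega) (by omega) (by omega))
        (hne (i + 1 + 1) (by omega) (by omega) (by omega)),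
      Equiv.swap_apply_of_ne_of_ne (hne i (by omega) le_rfl (by omega))
        (hne (i + 1) (by omega) (by omega) (by omega))]

/-- The stabiliser of the first two points, as a set. -/
def stab2 (n : ℕ) : Subgroup (alternatingGroup (Fin n)) where
  carrier := {σ | ∀ x : Fin n, ((x : ℕ) < 2 ↔ (((σ : Perm (Fin n)) x : Fin n) : ℕ) < 2)}
  one_mem' x := Iff.rfl
  mul_mem' {σ τ} hσ hτ x := (hτ x).trans (hσ _)
  inv_mem' {σ} hσ x := by
    have := hσ ((σ : Perm (Fin n))⁻¹ x)
    rw [apply_inv] at this
    exact this.symm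

theorem stab2_pair {hn : 0 + 2 ≤ n} {σ : alternatingGroup (Fin n)} (hσ : σ ∈ stab2 n) :
    ∃ t : Fin 2 → Fin 2, Function.Injective t ∧ ∀ a, (σ : Perm (Fin n)) (seg 0 hn a) = seg 0 hn (t a) := by
  have hlt : ∀ a : Fin 2, ((σ : Perm (Fin n)) (seg 0 hn a) : ℕ) < 2 := fun a =>
    (hσ _).1 (by simp only [seg]; omega)
  refine ⟨fun a => ⟨_, hlt a⟩, fun a b hab => seg_injective 0 hn ((σ : Perm (Fin n)).injective
    (Fin.ext (congrArg Fin.val hab :)) ), fun a => Fin.ext (by simp [seg])⟩

/-- A sign as a permutation of two points. -/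
def signPerm : ℤˣ →* Perm (Fin 2) where
  toFun u := if u = 1 then 1 else swap 0 1
  map_one' := if_pos rfl
  map_mul' a b := by
    rcases Int.units_eq_one_or a with rfl | rfl <;> rcases Int.units_eq_one_or b with rfl | rfl <;> decide

theorem sign_signPerm (u : ℤˣ) : Perm.sign (signPerm u) = u := by
  rcases Int.units_eq_one_or u with rfl | rfl <;> decide

/-- Permutations of the points from the third on, made even on the first two. -/
def phi (m : ℕ) : Perm (Fin m) →* alternatingGroup (Fin (2 + m)) where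
  toFun π := ⟨finSumFinEquiv.permCongr (Equiv.sumCongr (signPerm (Perm.sign π)) π), by
    rw [Perm.mem_alternatingGroup, Perm.sign_permCongr, Perm.sign_sumCongr, sign_signPerm]
    exact Int.units_mul_self _⟩
  map_one' := Subtype.ext (Equiv.ext fun x => by
    obtain ⟨y, rfl⟩ := finSumFinEquiv.surjective x
    show finSumFinEquiv.permCongr (Equiv.sumCongr (signPerm (Perm.sign (1 : Perm (Fin m)))) 1) _ = _
    rw [map_one, map_one]
    rcases y with a | a <;> simp [Equiv.permCongr_apply])
  map_mul' π π' := Subtype.ext (Equiv.ext fun x => by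
    obtain ⟨y, rfl⟩ := finSumFinEquiv.surjective x
    simp only [Subgroup.coe_mul, Perm.mul_apply, map_mul]
    rcases y with a | a <;> simp [Equiv.permCongr_apply])

theorem phi_inl (m : ℕ) (π : Perm (Fin m)) (a : Fin 2) :
    ((phi m π : alternatingGroup (Fin (2 + m))) : Perm (Fin (2 + m))) (finSumFinEquiv (Sum.inl a)) =
      finSumFinEquiv (Sum.inl (signPerm (Perm.sign π) a)) := by
  show finSumFinEquiv.permCongr _ _ = _
  simp [Equiv.permCongr_apply]

theorem phi_inr (m : ℕ) (π : Perm (Fin m)) (a : Fin m) :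
    ((phi m π : alternatingGroup (Fin (2 + m))) : Perm (Fin (2 + m))) (finSumFinEquiv (Sum.inr a)) =
      finSumFinEquiv (Sum.inr (π a)) := by
  show finSumFinEquiv.permCongr _ _ = _
  simp [Equiv.permCongr_apply]

theorem phi_mem (m : ℕ) (π : Perm (Fin m)) : phi m π ∈ stab2 (2 + m) := by
  intro x
  obtain ⟨y | y, rfl⟩ := finSumFinEquiv.surjective x
  · rw [phi_inl]; simp only [finSumFinEquiv_apply_left, Fin.val_castAdd]; omega
  · rw [phi_inr]; simp only [finSumFinEquiv_apply_right, Fin.val_natAdd]; omega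

theorem phi_surj (m : ℕ) {σ : alternatingGroup (Fin (2 + m))} (hσ : σ ∈ stab2 (2 + m)) :
    σ ∈ (phi m).range := by
  classical
  set τ : Perm (Fin 2 ⊕ Fin m) := finSumFinEquiv.symm.permCongr (σ : Perm (Fin (2 + m))) with hτ
  have hmem : τ ∈ (Perm.sumCongrHom (Fin 2) (Fin m)).range := by
    refine Perm.mem_sumCongrHom_range_of_perm_mapsTo_inl ?_
    rintro _ ⟨a, rfl⟩
    have := (hσ (finSumFinEquiv (Sum.inl a))).1 (by simp; omega)
    rw [show τ (Sum.inl a) =
      finSumFinEquiv.symm ((σ : Perm (Fin (2 + m))) (finSumFinEquiv (Sum.inl a))) from rfl]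
    obtain ⟨y | y, hy⟩ := finSumFinEquiv.surjective ((σ : Perm (Fin (2 + m))) (finSumFinEquiv (Sum.inl a)))
    · rw [← hy, Equiv.symm_apply_apply]; exact ⟨y, rfl⟩
    · rw [← hy] at this; simp at this; omega
  obtain ⟨⟨t, π⟩, ht⟩ := hmem
  have hs : Perm.sign t * Perm.sign π = 1 := by
    have hsum : Perm.sumCongr t π = τ := ht
    rw [← Perm.sign_sumCongr, hsum, hτ, Perm.sign_permCongr]
    exact Perm.mem_alternatingGroup.1 σ.2
  have htt : t = signPerm (Perm.sign π) := by
    have h1 : Perm.sign t = Perm.sign π := by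
      rw [mul_eq_one_iff_eq_inv, Int.units_inv_eq_self] at hs
      exact hs
    rw [← h1]
    clear ht h1 hs
    revert t
    decide
  refine ⟨π, Subtype.ext ?_⟩
  show finSumFinEquiv.permCongr (Equiv.sumCongr (signPerm (Perm.sign π)) π) = _
  rw [← htt, show Equiv.sumCongr t π = τ from ht, hτ]
  refine Equiv.ext fun x => ?_
  simp [Equiv.permCongr_apply]

/-- Two generators of the stabiliser of the first two points, one of them fixed. -/
theorem exists_stab_gens (hn : 4 ≤ n) :
    ∃ τ₁ τ₂ : alternatingGroup (Fin n), τ₁ ∈ stab2 n ∧ τ₂ ∈ stab2 n ∧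
      stab2 n ≤ Subgroup.closure {τ₁, τ₂} ∧
      (τ₁ : Perm (Fin n)) = swap ⟨0, by omega⟩ ⟨1, by omega⟩ * swap ⟨2, by omega⟩ ⟨3, by omega⟩ := by
  obtain ⟨m, rfl⟩ : ∃ m, n = 2 + (m + 2) := ⟨n - 4, by omega⟩
  refine ⟨phi _ (swap 0 1), phi _ (finRotate (m + 2)), phi_mem _ _, phi_mem _ _, fun σ hσ => ?_, ?_⟩
  · obtain ⟨π, rfl⟩ := phi_surj _ hσ
    have htop : Subgroup.closure ({finRotate (m + 2), swap 0 1} : Set (Perm (Fin (m + 2)))) = ⊤ := by
      have := Equiv.Perm.closure_cycle_adjacent_swap (σ := finRotate (m + 2)) isCycle_finRotate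
        support_finRotate (0 : Fin (m + 2))
      rwa [finRotate_apply, zero_add] at this
    have h1 : phi (m + 2) π ∈ (Subgroup.closure ({finRotate (m + 2), swap 0 1} : Set (Perm (Fin (m + 2))))).map
        (phi (m + 2)) := ⟨π, by rw [htop]; trivial, rfl⟩
    rw [MonoidHom.map_closure, Set.image_pair, Set.pair_comm] at h1
    exact h1
  · refine Equiv.ext fun x => ?_
    have h01 : Perm.sign (swap (0 : Fin (m + 2)) 1) = -1 := Perm.sign_swap (by simp)
    obtain ⟨y | y, rfl⟩ := finSumFinEquiv.surjective x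
    · rw [phi_inl, h01, Perm.mul_apply]
      refine Fin.ext ?_
      rw [Equiv.swap_apply_of_ne_of_ne (a := (⟨2, by omega⟩ : Fin (2 + (m + 2))))
        (by intro e; have := congrArg Fin.val e; simp at this; omega)
        (by intro e; have := congrArg Fin.val e; simp at this; omega)]
      obtain rfl | rfl : y = 0 ∨ y = 1 := by omega
      · rw [show finSumFinEquiv (Sum.inl (0 : Fin 2)) = (⟨0, by omega⟩ : Fin (2 + (m + 2))) from rfl,
          Equiv.swap_apply_left]
        rfl
      · rw [show finSumFinEquiv (Sum.inl (1 : Fin 2)) = (⟨1, by omega⟩ : Fin (2 + (m + 2))) from rfl,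
          Equiv.swap_apply_right]
        rfl
    · rw [phi_inr, Perm.mul_apply]
      have hv : ∀ z : Fin (m + 2), ((finSumFinEquiv (Sum.inr z) : Fin (2 + (m + 2))) : ℕ) = 2 + (z : ℕ) :=
        fun z => by simp
      rw [Equiv.swap_apply_of_ne_of_ne (a := (⟨0, by omega⟩ : Fin (2 + (m + 2))))]
      · by_cases h0 : y = 0
        · subst h0
          rw [Equiv.swap_apply_left, show finSumFinEquiv (Sum.inr (0 : Fin (m + 2))) =
            (⟨2, by omega⟩ : Fin (2 + (m + 2))) from Fin.ext (by rw [hv]; rfl), Equiv.swap_apply_left]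
          exact Fin.ext (by rw [hv]; simp)
        by_cases h1 : y = 1
        · subst h1
          rw [Equiv.swap_apply_right, show finSumFinEquiv (Sum.inr (1 : Fin (m + 2))) =
            (⟨3, by omega⟩ : Fin (2 + (m + 2))) from Fin.ext (by rw [hv]; simp), Equiv.swap_apply_right]
          exact Fin.ext (by rw [hv]; rfl)
        rw [Equiv.swap_apply_of_ne_of_ne h0 h1, Equiv.swap_apply_of_ne_of_ne]
        · intro e
          have := congrArg Fin.val e
          rw [hv] at this
          exact h0 (Fin.ext (by simp only [Fin.val_zero] at this ⊢; omega))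
        · intro e
          have := congrArg Fin.val e
          rw [hv] at this
          exact h1 (Fin.ext (by simp only [Fin.val_one] at this ⊢; omega))
      all_goals
        intro e
        have := congrArg Fin.val e
        simp only [Equiv.swap_apply_def, apply_ite Fin.val, hv, Fin.val_mk] at this
        split_ifs at this <;> omega

end CfsgLib.SUPresent
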