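import Cfsg.Agent.Lib.SUPresent.Gen

/-!
Generators of the stabiliser of the first three points in the alternating group.
-/

set_option autoImplicit false
set_option linter.unusedSectionVars false

namespace CfsgLib.SUPresent

open Equiv CfsgLib.Phan

variable {n : ℕ}

/-- The stabiliser of the first three points, as a set. -/
def stab3 (n : ℕ) : Subgroup (alternatingGroup (Fin n)) where
  carrier := {σ | ∀ x : Fin n, ((x : ℕ) < 3 ↔ (((σ : Perm (Fin n)) x : Fin n) : ℕ) < 3)}
  one_mem' x := Iff.rfl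
  mul_mem' {σ τ} hσ hτ x := (hτ x).trans (hσ _)
  inv_mem' {σ} hσ x := by
    have := hσ ((σ : Perm (Fin n))⁻¹ x)
    rw [apply_inv] at this
    exact this.symm

theorem stab3_triple {hn : 0 + 3 ≤ n} {σ : alternatingGroup (Fin n)} (hσ : σ ∈ stab3 n) :
    ∃ u : Fin 3 → Fin 3, Function.Injective u ∧ ∀ a, (σ : Perm (Fin n)) (seg 0 hn a) = seg 0 hn (u a) := by
  have hlt : ∀ a : Fin 3, ((σ : Perm (Fin n)) (seg 0 hn a) : ℕ) < 3 := fun a =>
    (hσ _).1 (by simp only [seg]; omega)
  refine ⟨fun a => ⟨_, hlt a⟩, fun a b hab => seg_injective 0 hn ((σ : Perm (Fin n)).injective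
    (Fin.ext (congrArg Fin.val hab :)) ), fun a => Fin.ext (by simp [seg])⟩

theorem mem_stab3 (hn : 0 + 3 ≤ n) {σ : alternatingGroup (Fin n)} {u : Fin 3 → Fin 3}
    (hu : Function.Injective u) (h : ∀ a, (σ : Perm (Fin n)) (seg 0 hn a) = seg 0 hn (u a)) : σ ∈ stab3 n := by
  intro x
  constructor
  · intro hx
    rw [show x = seg 0 hn ⟨x, hx⟩ from Fin.ext (by simp [seg]), h]
    simp only [seg]; omega
  · intro hx
    obtain ⟨a, ha⟩ := Finite.surjective_of_injective hu ⟨_, hx⟩
    have e : (σ : Perm (Fin n)) (seg 0 hn a) = (σ : Perm (Fin n)) x := by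
      rw [h, ha]; exact Fin.ext (by simp [seg])
    rw [← (σ : Perm (Fin n)).injective e]
    simp only [seg]; omega

/-- A sign as a permutation of three points. -/
def signPerm3 : ℤˣ →* Perm (Fin 3) where
  toFun u := if u = 1 then 1 else swap 0 1
  map_one' := if_pos rfl
  map_mul' a b := by
    rcases Int.units_eq_one_or a with rfl | rfl <;> rcases Int.units_eq_one_or b with rfl | rfl <;> decide

theorem sign_signPerm3 (u : ℤˣ) : Perm.sign (signPerm3 u) = u := by
  rcases Int.units_eq_one_or u with rfl | rfl <;> decide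

/-- Permutations of the points from the fourth on, made even on the first three. -/
def phi3 (m : ℕ) : Perm (Fin m) →* alternatingGroup (Fin (3 + m)) where
  toFun π := ⟨finSumFinEquiv.permCongr (Equiv.sumCongr (signPerm3 (Perm.sign π)) π), by
    rw [Perm.mem_alternatingGroup, Perm.sign_permCongr, Perm.sign_sumCongr, sign_signPerm3]
    exact Int.units_mul_self _⟩
  map_one' := Subtype.ext (Equiv.ext fun x => by
    obtain ⟨y, rfl⟩ := finSumFinEquiv.surjective x
    show finSumFinEquiv.permCongr (Equiv.sumCongr (signPerm3 (Perm.sign (1 : Perm (Fin m)))) 1) _ = _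
    rw [map_one, map_one]
    rcases y with a | a <;> simp [Equiv.permCongr_apply])
  map_mul' π π' := Subtype.ext (Equiv.ext fun x => by
    obtain ⟨y, rfl⟩ := finSumFinEquiv.surjective x
    simp only [Subgroup.coe_mul, Perm.mul_apply, map_mul]
    rcases y with a | a <;> simp [Equiv.permCongr_apply])

theorem phi3_inl (m : ℕ) (π : Perm (Fin m)) (a : Fin 3) :
    ((phi3 m π : alternatingGroup (Fin (3 + m))) : Perm (Fin (3 + m))) (finSumFinEquiv (Sum.inl a)) =
      finSumFinEquiv (Sum.inl (signPerm3 (Perm.sign π) a)) := by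
  show finSumFinEquiv.permCongr _ _ = _
  simp [Equiv.permCongr_apply]

theorem phi3_inr (m : ℕ) (π : Perm (Fin m)) (a : Fin m) :
    ((phi3 m π : alternatingGroup (Fin (3 + m))) : Perm (Fin (3 + m))) (finSumFinEquiv (Sum.inr a)) =
      finSumFinEquiv (Sum.inr (π a)) := by
  show finSumFinEquiv.permCongr _ _ = _
  simp [Equiv.permCongr_apply]

theorem phi3_mem (m : ℕ) (π : Perm (Fin m)) : phi3 m π ∈ stab3 (3 + m) := by
  intro x
  obtain ⟨y | y, rfl⟩ := finSumFinEquiv.surjective x
  · rw [phi3_inl]; simp only [finSumFinEquiv_apply_left, Fin.val_castAdd]; omega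
  · rw [phi3_inr]; simp only [finSumFinEquiv_apply_right, Fin.val_natAdd]; omega

/-- Every element is a power of the three-cycle times an element from the other points. -/
theorem phi3_surj (m : ℕ) {σ c : alternatingGroup (Fin (3 + m))} (hσ : σ ∈ stab3 (3 + m))
    (hc1 : ∀ a : Fin 3, (c : Perm (Fin (3 + m))) (seg 0 (show 0 + 3 ≤ 3 + m by omega) a) =
      seg 0 (show 0 + 3 ≤ 3 + m by omega) (a + 1))
    (hc2 : ∀ x, x ∉ Set.range (seg 0 (show 0 + 3 ≤ 3 + m by omega)) → (c : Perm (Fin (3 + m))) x = x) :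
    ∃ (k : ℕ) (π : Perm (Fin m)), σ = c ^ k * phi3 m π := by
  classical
  set τ : Perm (Fin 3 ⊕ Fin m) := finSumFinEquiv.symm.permCongr (σ : Perm (Fin (3 + m))) with hτ
  have hmem : τ ∈ (Perm.sumCongrHom (Fin 3) (Fin m)).range := by
    refine Perm.mem_sumCongrHom_range_of_perm_mapsTo_inl ?_
    rintro _ ⟨a, rfl⟩
    have := (hσ (finSumFinEquiv (Sum.inl a))).1 (by simp)
    rw [show τ (Sum.inl a) =
      finSumFinEquiv.symm ((σ : Perm (Fin (3 + m))) (finSumFinEquiv (Sum.inl a))) from rfl]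
    obtain ⟨y | y, hy⟩ := finSumFinEquiv.surjective ((σ : Perm (Fin (3 + m))) (finSumFinEquiv (Sum.inl a)))
    · rw [← hy, Equiv.symm_apply_apply]; exact ⟨y, rfl⟩
    · rw [← hy] at this; simp at this
  obtain ⟨⟨t, π⟩, ht⟩ := hmem
  have hs : Perm.sign t * Perm.sign π = 1 := by
    have hsum : Perm.sumCongr t π = τ := ht
    rw [← Perm.sign_sumCongr, hsum, hτ, Perm.sign_permCongr]
    exact Perm.mem_alternatingGroup.1 σ.2
  have h1 : Perm.sign t = Perm.sign π := by
    rw [mul_eq_one_iff_eq_inv, Int.units_inv_eq_self] at hs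
    exact hs
  obtain ⟨k, hk⟩ : ∃ k : Fin 3, ∀ a, t a = signPerm3 (Perm.sign t) a + k := by
    clear ht h1 hs
    revert t
    decide
  refine ⟨k, π, Subtype.ext (Equiv.ext fun x => ?_)⟩
  have hσx : ∀ y, (σ : Perm (Fin (3 + m))) (finSumFinEquiv y) = finSumFinEquiv (Equiv.sumCongr t π y) := fun y => by
    rw [show Equiv.sumCongr t π = τ from ht]
    simp [hτ, Equiv.permCongr_apply]
  have hck : ∀ (j : ℕ) (a : Fin 3), ((c ^ j : alternatingGroup (Fin (3 + m))) : Perm (Fin (3 + m)))
      (seg 0 (show 0 + 3 ≤ 3 + m by omega) a) = seg 0 (show 0 + 3 ≤ 3 + m by omega) (a + (⟨j % 3, Nat.mod_lt j three_pos⟩ : Fin 3)) := by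
    intro j
    induction j with
    | zero => intro a; simp
    | succ j ih =>
      intro a
      rw [pow_succ', Subgroup.coe_mul, Perm.mul_apply, ih, hc1]
      congr 1
      apply Fin.ext
      simp [Fin.val_add]; omega
  have hck2 : ∀ (j : ℕ) (y : Fin m), ((c ^ j : alternatingGroup (Fin (3 + m))) : Perm (Fin (3 + m)))
      (finSumFinEquiv (Sum.inr y)) = finSumFinEquiv (Sum.inr y) := by
    intro j
    induction j with
    | zero => intro y; rfl
    | succ j ih =>
      intro y
      rw [pow_succ', Subgroup.coe_mul, Perm.mul_apply, ih, hc2]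
      rintro ⟨a, ha⟩
      have := congrArg Fin.val ha
      simp [seg] at this
      omega
  have hseg : ∀ a : Fin 3, finSumFinEquiv (Sum.inl a) = seg 0 (show 0 + 3 ≤ 3 + m by omega) a := fun a =>
    Fin.ext (by simp [seg])
  obtain ⟨y | y, rfl⟩ := finSumFinEquiv.surjective x
  · rw [Subgroup.coe_mul, Perm.mul_apply, phi3_inl, hσx, ← h1]
    show finSumFinEquiv (Sum.inl (t y)) = _
    rw [hseg, hseg, hck, hk]
    congr 2
    exact Fin.ext (Nat.mod_eq_of_lt k.2).symm
  · rw [Subgroup.coe_mul, Perm.mul_apply, phi3_inr, hσx, hck2]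
    rfl

/-- The stabiliser of the first three points is generated by the three-cycle and two more elements. -/
theorem exists_stab3_gens (hn : 5 ≤ n) :
    ∃ τ₁ τ₂ : alternatingGroup (Fin n), τ₁ ∈ stab3 n ∧ τ₂ ∈ stab3 n ∧
      ∀ c : alternatingGroup (Fin n),
        (∀ a : Fin 3, (c : Perm (Fin n)) (seg 0 (show 0 + 3 ≤ n by omega) a) =
          seg 0 (show 0 + 3 ≤ n by omega) (a + 1)) →
        (∀ x, x ∉ Set.range (seg 0 (show 0 + 3 ≤ n by omega)) → (c : Perm (Fin n)) x = x) →
        stab3 n ≤ Subgroup.closure {c, τ₁, τ₂} := by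
  obtain ⟨m, rfl⟩ : ∃ m, n = 3 + (m + 2) := ⟨n - 5, by omega⟩
  refine ⟨phi3 _ (swap 0 1), phi3 _ (finRotate (m + 2)), phi3_mem _ _, phi3_mem _ _, fun c hc1 hc2 σ hσ => ?_⟩
  obtain ⟨k, π, rfl⟩ := phi3_surj _ hσ hc1 hc2
  refine mul_mem (pow_mem (Subgroup.subset_closure (Set.mem_insert _ _)) _)
    (Subgroup.closure_mono (Set.subset_insert _ _) ?_)
  have htop : Subgroup.closure ({finRotate (m + 2), swap 0 1} : Set (Perm (Fin (m + 2)))) = ⊤ := by
    have := Equiv.Perm.closure_cycle_adjacent_swap (σ := finRotate (m + 2)) isCycle_finRotate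
      support_finRotate (0 : Fin (m + 2))
    rwa [finRotate_apply, zero_add] at this
  have h1 : phi3 (m + 2) π ∈ (Subgroup.closure ({finRotate (m + 2), swap 0 1} : Set (Perm (Fin (m + 2))))).map
      (phi3 (m + 2)) := ⟨π, by rw [htop]; trivial, rfl⟩
  rw [MonoidHom.map_closure, Set.image_pair, Set.pair_comm] at h1
  exact h1

end CfsgLib.SUPresent
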