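import Cfsg.Agent.Lib.SUPresent.Glue
import Cfsg.Agent.Lib.SUThreePresent.Result
import Cfsg.Agent.Lib.SymPresent.Main

/-!
Presentations of `SU_n(q)`, `q ≥ 4`, on six generators.
-/

set_option autoImplicit false
set_option linter.unusedSectionVars false

namespace CfsgLib.SUPresent

open Matrix Equiv CfsgLib.Phan CfsgLib.ClassicalGroups CfsgLib.SymPresent CfsgLib.SUPresent.Hyp

variable {F : Type*} [Field F] [Fintype F] {q n : ℕ}

/-- Gluing a presentation of the alternating group and one of `SU_3`. -/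
theorem glue (hF : Fintype.card F = q ^ 2) (hq : 4 ≤ q) (hn : 4 ≤ n) {ι κ : Type}
    {a : ι → alternatingGroup (Fin n)} {b : κ → ↥(Cfsg.SU 3 F q)} {r s : ℕ}
    (ha : HasPres a r) (hb : HasPres b s) :
    ∃ v : ι ⊕ κ → ↥(Cfsg.SU n F q), HasPres v (r + s + 8) := by
  classical
  obtain ⟨RA, hRA, hRA1, homA⟩ := exists_hom_of_pres ha
  obtain ⟨RM, hRM, hRM1, homM⟩ := exists_hom_of_pres hb
  have wordA : ∀ g, ∃ w, FreeGroup.lift a w = g := fun g => by
    have : g ∈ (FreeGroup.lift a).range := by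
      rw [FreeGroup.range_lift_eq_closure, ha.closure_eq_top]; exact Subgroup.mem_top g
    exact this
  have wordM : ∀ g, ∃ w, FreeGroup.lift b w = g := fun g => by
    have : g ∈ (FreeGroup.lift b).range := by
      rw [FreeGroup.range_lift_eq_closure, hb.closure_eq_top]; exact Subgroup.mem_top g
    exact this
  choose wa hwa using wordA
  choose wm hwm using wordM
  let A : FreeGroup ι →* FreeGroup (ι ⊕ κ) := FreeGroup.map Sum.inl
  let B : FreeGroup κ →* FreeGroup (ι ⊕ κ) := FreeGroup.map Sum.inr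
  let lA : alternatingGroup (Fin n) → FreeGroup (ι ⊕ κ) := fun g => A (wa g)
  let lM : ↥(Cfsg.SU 3 F q) → FreeGroup (ι ⊕ κ) := fun g => B (wm g)
  set M₀ : Cfsg.SU 3 F q →* Cfsg.SU n F q := bk 0 (show 0 + 3 ≤ n by omega)
  set v : ι ⊕ κ → ↥(Cfsg.SU n F q) := Sum.elim (fun i => pm F q n (a i)) (fun k => M₀ (b k)) with hv
  have hvA : ∀ w, FreeGroup.lift v (A w) = pm F q n (FreeGroup.lift a w) := fun w =>
    DFunLike.congr_fun (FreeGroup.ext_hom ((FreeGroup.lift v).comp A) ((pm F q n).comp (FreeGroup.lift a))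
      fun i => by simp [A, hv]) w
  have hvB : ∀ w, FreeGroup.lift v (B w) = M₀ (FreeGroup.lift b w) := fun w =>
    DFunLike.congr_fun (FreeGroup.ext_hom ((FreeGroup.lift v).comp B) (M₀.comp (FreeGroup.lift b))
      fun i => by simp [B, hv]) w
  have hvlA : ∀ g, FreeGroup.lift v (lA g) = pm F q n g := fun g => by simp only [lA, hvA, hwa]
  have hvlM : ∀ g, FreeGroup.lift v (lM g) = M₀ g := fun g => by simp only [lM, hvB, hwm]
  have H₀ : Hyp (F := F) (q := q) hn (pm F q n) M₀ := hyp_std hn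
  -- the elements
  obtain ⟨X, hX⟩ := su_two_gen hF
  let τ₀ : alternatingGroup (Fin 3) := ⟨finRotate 3, Perm.mem_alternatingGroup.2 (by decide)⟩
  let E := Equiv.ofInjective (i3 hn) (seg_injective 0 (show 0 + 3 ≤ n by omega))
  let c : alternatingGroup (Fin n) := ⟨(τ₀ : Perm (Fin 3)).extendDomain E, Perm.mem_alternatingGroup.2 (by
    rw [Perm.sign_extendDomain]; exact Perm.mem_alternatingGroup.1 τ₀.2)⟩
  have hc1 : ∀ a, (c : Perm (Fin n)) (i3 hn a) = i3 hn ((τ₀ : Perm (Fin 3)) a) := fun a => by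
    have := Perm.extendDomain_apply_image (τ₀ : Perm (Fin 3)) E a
    simpa [c, E] using this
  have hc2 : ∀ x, x ∉ Set.range (i3 hn) → (c : Perm (Fin n)) x = x :=
    fun x hx => Perm.extendDomain_apply_not_subtype _ _ hx
  obtain ⟨T₁, T₂, hT₁, hT₂, hTgen, -⟩ := exists_stab_gens hn
  obtain ⟨t₁, ht₁, htt₁⟩ := stab2_pair (hn := show 0 + 2 ≤ n by omega) hT₁
  obtain ⟨t₂, ht₂, htt₂⟩ := stab2_pair (hn := show 0 + 2 ≤ n by omega) hT₂
  let σ₀p : Perm (Fin n) := swap ⟨0, by omega⟩ ⟨2, by omega⟩ * swap ⟨1, by omega⟩ ⟨3, by omega⟩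
  let σ₀ : alternatingGroup (Fin n) := ⟨σ₀p, Perm.mem_alternatingGroup.2 (by
    rw [map_mul, Perm.sign_swap (by simp [Fin.ext_iff]), Perm.sign_swap (by simp [Fin.ext_iff])]; decide)⟩
  have hσ₀sq : σ₀ * σ₀ = 1 := Subtype.ext (Equiv.ext fun x => by
    show σ₀p (σ₀p x) = x
    simp only [σ₀p, Perm.mul_apply, Equiv.swap_apply_def]
    by_cases h0 : (x : ℕ) = 0 <;> by_cases h1 : (x : ℕ) = 1 <;> by_cases h2 : (x : ℕ) = 2 <;>
      by_cases h3 : (x : ℕ) = 3 <;> simp_all [Fin.ext_iff])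
  have hσ₀ : ∀ a, (σ₀ : Perm (Fin n)) (i2 hn a) = seg 2 (show 2 + 2 ≤ n by omega) a := fun a => by
    obtain rfl | rfl : a = 0 ∨ a = 1 := by omega
    all_goals simp [σ₀, σ₀p, i2, seg, Perm.mul_apply, Equiv.swap_apply_def, Fin.ext_iff]
  let N₀ : Fin 2 → FreeGroup (ι ⊕ κ) := fun k => lM (b01 (X k))
  set L : List (FreeGroup (ι ⊕ κ)) :=
    [lA c * (lM (pm F q 3 τ₀))⁻¹,
      lA T₁ * N₀ 0 * (lA T₁)⁻¹ * (lM (b01 (emb t₁ ht₁ (X 0))))⁻¹,
      lA T₁ * N₀ 1 * (lA T₁)⁻¹ * (lM (b01 (emb t₁ ht₁ (X 1))))⁻¹,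
      lA T₂ * N₀ 0 * (lA T₂)⁻¹ * (lM (b01 (emb t₂ ht₂ (X 0))))⁻¹,
      lA T₂ * N₀ 1 * (lA T₂)⁻¹ * (lM (b01 (emb t₂ ht₂ (X 1))))⁻¹,
      N₀ 0 * (lA σ₀ * N₀ 0 * (lA σ₀)⁻¹) * (lA σ₀ * N₀ 0 * (lA σ₀)⁻¹ * N₀ 0)⁻¹,
      N₀ 0 * (lA σ₀ * N₀ 1 * (lA σ₀)⁻¹) * (lA σ₀ * N₀ 1 * (lA σ₀)⁻¹ * N₀ 0)⁻¹,
      N₀ 1 * (lA σ₀ * N₀ 1 * (lA σ₀)⁻¹) * (lA σ₀ * N₀ 1 * (lA σ₀)⁻¹ * N₀ 1)⁻¹] with hL
  set rels : Finset (FreeGroup (ι ⊕ κ)) := RA.image A ∪ RM.image B ∪ L.toFinset with hrels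
  have hcard : rels.card ≤ r + s + 8 := by
    refine (Finset.card_union_le _ _).trans (add_le_add ((Finset.card_union_le _ _).trans
      (add_le_add (Finset.card_image_le.trans hRA) (Finset.card_image_le.trans hRM))) ?_)
    exact (List.toFinset_card_le L).trans (by simp only [hL, List.length_cons, List.length_nil]; omega)
  -- the relations hold
  have hmem : ∀ x ∈ (↑rels : Set (FreeGroup (ι ⊕ κ))), FreeGroup.lift v x = 1 := by
    intro x hx
    rw [Finset.mem_coe, hrels, Finset.mem_union, Finset.mem_union, Finset.mem_image, Finset.mem_image,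
      List.mem_toFinset] at hx
    rcases hx with (⟨y, hy, rfl⟩ | ⟨y, hy, rfl⟩) | hx
    · rw [hvA, hRA1 y hy, map_one]
    · rw [hvB, hRM1 y hy, map_one]
    · obtain ⟨σ', hσ', hcomm⟩ := H₀.hcomm
      have hcm : ∀ k l, M₀ (b01 (X k)) * (pm F q n σ₀ * M₀ (b01 (X l)) * (pm F q n σ₀)⁻¹) =
          pm F q n σ₀ * M₀ (b01 (X l)) * (pm F q n σ₀)⁻¹ * M₀ (b01 (X k)) := fun k l => by
        have := hcomm (X k) (X l)
        rw [H₀.N_eq (seg_injective 2 (show 2 + 2 ≤ n by omega)) σ' hσ',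
          ← H₀.N_eq (seg_injective 2 (show 2 + 2 ≤ n by omega)) σ₀ hσ₀] at this
        exact this.eq
      simp only [hL, List.mem_cons, List.not_mem_nil, or_false] at hx
      rcases hx with rfl | rfl | rfl | rfl | rfl | rfl | rfl | rfl <;>
        simp only [N₀, map_mul, map_inv, hvlA, hvlM, mul_inv_eq_one]
      exacts [H₀.hc c τ₀ hc1 hc2, H₀.hst T₁ t₁ ht₁ htt₁ _, H₀.hst T₁ t₁ ht₁ htt₁ _,
        H₀.hst T₂ t₂ ht₂ htt₂ _, H₀.hst T₂ t₂ ht₂ htt₂ _, hcm 0 0, hcm 0 1, hcm 1 1]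
  -- the presented group
  set P := PresentedGroup (↑rels : Set (FreeGroup (ι ⊕ κ)))
  set m := PresentedGroup.mk (↑rels : Set (FreeGroup (ι ⊕ κ))) with hm
  have hm1 : ∀ x ∈ rels, m x = 1 := fun x hx => PresentedGroup.one_of_mem (Finset.mem_coe.2 hx)
  obtain ⟨ρ, hρ⟩ := homA (G := P) (m.comp A) fun x hx => hm1 _ (by
    simp only [hrels, Finset.mem_union, Finset.mem_image]; exact Or.inl (Or.inl ⟨x, hx, rfl⟩))
  obtain ⟨M, hM⟩ := homM (G := P) (m.comp B) fun x hx => hm1 _ (by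
    simp only [hrels, Finset.mem_union, Finset.mem_image]; exact Or.inl (Or.inr ⟨x, hx, rfl⟩))
  have hlA : ∀ g, m (lA g) = ρ g := fun g => by
    conv_rhs => rw [← hwa g, hρ]
    rfl
  have hlM : ∀ g, m (lM g) = M g := fun g => by
    conv_rhs => rw [← hwm g, hM]
    rfl
  have hLm : ∀ {y z : FreeGroup (ι ⊕ κ)}, y * z⁻¹ ∈ L → m y = m z := fun {y z} hy => by
    have := hm1 (y * z⁻¹) (by rw [hrels, Finset.mem_union]; exact Or.inr (List.mem_toFinset.2 hy))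
    rwa [map_mul, map_inv, mul_inv_eq_one] at this
  have H : Hyp (F := F) (q := q) hn ρ M := by
    refine ⟨hc_of_gen hn ρ M (τ₀ := τ₀) rfl hc1 hc2 ?_,
      hst_of_gens hn ρ M hX {T₁, T₂} hTgen ?_, σ₀, hσ₀, ?_⟩
    · rw [← hlA, ← hlM]; exact hLm (by simp only [hL, List.mem_cons, true_or, or_true])
    · rintro τ (rfl | rfl)
      · refine ⟨t₁, ht₁, htt₁, fun k => ?_⟩
        rw [← hlA, ← hlM, ← hlM, ← map_inv, ← map_mul, ← map_mul]
        refine hLm ?_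
        obtain rfl | rfl : k = 0 ∨ k = 1 := by omega
        all_goals simp only [hL, N₀, List.mem_cons, true_or, or_true]
      · refine ⟨t₂, ht₂, htt₂, fun k => ?_⟩
        rw [← hlA, ← hlM, ← hlM, ← map_inv, ← map_mul, ← map_mul]
        refine hLm ?_
        obtain rfl | rfl : k = 0 ∨ k = 1 := by omega
        all_goals simp only [hL, N₀, List.mem_cons, true_or, or_true]
    · have hrel : ∀ k l, N₀ k * (lA σ₀ * N₀ l * (lA σ₀)⁻¹) * (lA σ₀ * N₀ l * (lA σ₀)⁻¹ * N₀ k)⁻¹ ∈ L →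
          Commute (M.comp b01 (X k)) (ρ σ₀ * M.comp b01 (X l) * (ρ σ₀)⁻¹) := fun k l hkl => by
        have := hLm hkl
        simp only [N₀, map_mul, map_inv, hlA, hlM] at this
        exact this
      exact hcomm_of_gens (by rw [← map_mul, hσ₀sq, map_one]) (M.comp b01) hX (hrel 0 0 (by simp only [hL, List.mem_cons, true_or, or_true]))
        (hrel 0 1 (by simp only [hL, List.mem_cons, true_or, or_true]))
        (hrel 1 1 (by simp only [hL, List.mem_cons, true_or, or_true]))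
  have hgenP : Subgroup.closure (Set.range ρ ∪ Set.range M) = ⊤ := by
    rw [eq_top_iff, ← PresentedGroup.closure_range_of, Subgroup.closure_le]
    rintro _ ⟨i | k, rfl⟩
    · refine Subgroup.subset_closure (Or.inl ⟨a i, ?_⟩)
      rw [← FreeGroup.lift_apply_of (f := a) (x := i), hρ]
      simp only [MonoidHom.comp_apply, A, FreeGroup.map.of]
      rfl
    · refine Subgroup.subset_closure (Or.inr ⟨b k, ?_⟩)
      rw [← FreeGroup.lift_apply_of (f := b) (x := k), hM]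
      simp only [MonoidHom.comp_apply, B, FreeGroup.map.of]
      rfl
  obtain ⟨f, hf⟩ := H.exists_surjective hF (by omega) (Or.inl hq) hgenP
  obtain ⟨φ, hφ⟩ : ∃ φ : P →* ↥(Cfsg.SU n F q), ∀ i, φ (PresentedGroup.of i) = v i :=
    ⟨PresentedGroup.toGroup hmem, fun i => PresentedGroup.toGroup.of hmem⟩
  have hφsurj : Function.Surjective φ := by
    rw [← MonoidHom.range_eq_top, eq_top_iff, ← std_gen hF (by omega) hn, Subgroup.closure_le]
    have hφm : ∀ x, φ (m x) = FreeGroup.lift v x := fun x =>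
      DFunLike.congr_fun (FreeGroup.ext_hom (φ.comp m) (FreeGroup.lift v) fun i => by
        simp only [MonoidHom.comp_apply, FreeGroup.lift_apply_of]; exact hφ i) x
    rintro _ (⟨g, rfl⟩ | ⟨g, rfl⟩)
    exacts [⟨m (lA g), by rw [hφm, hvlA]⟩, ⟨m (lM g), by rw [hφm, hvlM]⟩]
  haveI : Finite P := Finite.of_surjective f hf
  have hbij : Function.Bijective φ :=
    (Nat.bijective_iff_surjective_and_card φ).2 ⟨hφsurj,
      le_antisymm (Nat.card_le_card_of_surjective f hf) (Nat.card_le_card_of_surjective φ hφsurj)⟩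
  exact ⟨v, rels, hcard, MulEquiv.ofBijective φ hbij, hφ⟩

/-- Padding with a trivial generator. -/
theorem hasPres_pad' {G : Type*} [Group G] {r : ℕ} {ι : Type} [Fintype ι] {k : ℕ}
    (hk : Fintype.card ι = k) {v : ι → G} (h : HasPres v r) : ∃ w : Fin k → G, HasPres w r :=
  ⟨_, hasPres_reindex h (Fintype.equivFinOfCardEq hk)⟩

/-- Six generators and thirty-two relations. -/
theorem su_large (hF : Fintype.card F = q ^ 2) (hq : 4 ≤ q) (hn : 4 ≤ n) :
    ∃ v : Fin 6 → ↥(Cfsg.SU n F q), HasPres v 32 := by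
  obtain ⟨b, hb⟩ := CfsgLib.SUThreePresent.su_three (F := F) hF (by omega)
  rcases hn.eq_or_lt with rfl | h5
  · obtain ⟨a, ha⟩ := small_even 4 1 one_pos rfl true
    obtain ⟨v, hv⟩ := glue hF hq le_rfl (ha.map (altEquiv 4)) hb
    obtain ⟨w, hw⟩ := hasPres_pad' (k := 5) (by simp) hv
    obtain ⟨x, hx⟩ := CfsgLib.SpPresent.hasPres_pad hw
    exact ⟨x, hx.mono (by norm_num)⟩
  · obtain ⟨a, ha⟩ := three_gen n h5 true
    obtain ⟨v, hv⟩ := glue hF hq hn (ha.map (altEquiv n)) hb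
    obtain ⟨w, hw⟩ := hasPres_pad' (k := 6) (by simp) hv
    exact ⟨w, hw⟩

end CfsgLib.SUPresent
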