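import Cfsg.Agent.Lib.SUPresent.SmallData
import Cfsg.Agent.Lib.SUPresent.Cert.SUThreeTwoCert
import Cfsg.Agent.Lib.SUPresent.Cert.SUFourTwoCert
import Cfsg.Agent.Lib.SUPresent.Cert.SUThreeThreeCert
import Cfsg.Agent.Lib.SUPresent.Cert.SUFourThreeCert
import Cfsg.Agent.Lib.Presented.Order
import Cfsg.Agent.Lib.SUPresent.Glue
import Cfsg.Agent.Lib.SymPresent.Tietze
import Cfsg.Agent.Lib.Phan.TwoStep
import Cfsg.Agent.Lib.Phan.NineTwo

/-!
Presentations of `SU_4(2)` and `SU_4(3)` on three generators: coset tables bound the presented groups.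
-/

set_option autoImplicit false
set_option linter.unusedSectionVars false
set_option maxRecDepth 8000

namespace CfsgLib.SUPresent

open Matrix CfsgLib.Phan CfsgLib.ClassicalGroups CfsgLib.Presented CfsgLib.SymPresent

variable {G : Type*} [Group G]

/-- The letters of three elements: each element is followed by its inverse. -/
def evg (g : Fin 3 → G) (x : ℕ) : G := [g 0, (g 0)⁻¹, g 1, (g 1)⁻¹, g 2, (g 2)⁻¹].getD x 1

theorem map_evg {H : Type*} [Group H] (f : G →* H) (g : Fin 3 → G) (x : ℕ) :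
    f (evg g x) = evg (fun i => f (g i)) x := by
  rcases (show x < 6 ∨ 6 ≤ x by omega) with h | h
  · interval_cases x <;> simp [evg]
  · simp [evg, List.getElem?_eq_none (show [g 0, (g 0)⁻¹, g 1, (g 1)⁻¹, g 2, (g 2)⁻¹].length ≤ x from h),
      List.getElem?_eq_none (show [f (g 0), (f (g 0))⁻¹, f (g 1), (f (g 1))⁻¹, f (g 2), (f (g 2))⁻¹].length ≤ x from h)]

theorem map_evW {H : Type*} [Group H] (f : G →* H) (g : Fin 3 → G) (w : List ℕ) :
    f (evW (evg g) w) = evW (evg fun i => f (g i)) w := by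
  simp [evW, map_list_prod, Function.comp_def, map_evg]

/-- The inverse letters. -/
def invTable : List ℕ := [1, 0, 3, 2, 5, 4, 6]

/-- Two coset tables bound a group. -/
theorem card_bound {C3 C4 : VCert} (h3 : C3.ok = true) (h4 : C4.ok = true) (he : C4.R.A.eps = 6)
    (he3 : C3.R.A.eps = 4) (hi4 : ((List.range 6).all fun x => Nat.beq (C4.R.A.invl x) (invTable.getD x 6)) = true)
    (hi3 : ((List.range 4).all fun x => Nat.beq (C3.R.A.invl x) (invTable.getD x 6)) = true)
    (hr : (C3.rels.all fun w => C4.rels.contains (w.map fun x => [0, 1, 2, 3].getD x 6)) = true)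
    (hs3 : C3.subs = []) (hs4 : C4.subs = [[0], [2]])
    (g : Fin 3 → G) (hgen : Subgroup.closure (Set.range g) = ⊤) (hrel : ∀ w ∈ C4.rels, evW (evg g) w = 1) :
    Nat.card G ≠ 0 ∧ Nat.card G ≤ C4.R.N * (C3.R.N * 1) := by
  set ev := evg g with hev
  simp only [List.all_eq_true, List.mem_range] at hi4 hi3
  have hone : ev C4.R.A.eps = 1 := by rw [he]; simp [ev, evg]
  have hinv : ∀ x, x < C4.R.A.eps → ev (C4.R.A.invl x) * ev x = 1 := by
    intro x hx
    rw [he] at hx
    rw [Nat.eq_of_beq_eq_true (hi4 x hx)]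
    interval_cases x <;> simp [ev, evg, invTable]
  have hemb : ((List.range C3.R.A.eps).all fun x => Nat.blt ([0, 1, 2, 3].getD x C4.R.A.eps) C4.R.A.eps &&
      Nat.beq ([0, 1, 2, 3].getD (C3.R.A.invl x) C4.R.A.eps)
        (C4.R.A.invl ([0, 1, 2, 3].getD x C4.R.A.eps))) = true := by
    simp only [List.all_eq_true, List.mem_range, he, he3, Bool.and_eq_true, Nat.blt_eq]
    intro x hx
    rw [Nat.eq_of_beq_eq_true (hi3 x hx)]
    interval_cases x <;>
      exact ⟨by simp, by rw [Nat.eq_of_beq_eq_true (hi4 _ (by simp))]; simp [invTable]⟩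
  have h1 := relIndex_le_of_subCert (ev := ev) (A := C4.R.A) (emb := [0, 1, 2, 3]) (K := [0, 1, 2, 3])
    (H := genBy ev []) h3 hone hinv hemb (by simp [he3])
    (fun y hy => ⟨y, by simp at hy; omega, by
      simp at hy; rcases hy with rfl | rfl | rfl | rfl <;> simp⟩)
    (rels_of_check hrel (by rw [he]; exact hr)) (by simp [hs3])
  have b1 := card_le_mul (by rw [genBy_nil]; exact bot_le) (card_bot_le ev) h1
  have h2 : (genBy ev [0, 1, 2, 3]).relIndex (⊤ : Subgroup G) ≠ 0 ∧
      (genBy ev [0, 1, 2, 3]).relIndex (⊤ : Subgroup G) ≤ C4.R.N := by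
    refine relIndex_top_le h4 hone hinv hrel (fun w hw => ?_) (eq_top_iff.2 ?_)
    · simp [hs4] at hw
      rcases hw with rfl | rfl <;> simpa [evW] using mem_genBy ev (by simp)
    · rw [← hgen, Subgroup.closure_le]
      rintro _ ⟨i, rfl⟩
      refine Subgroup.subset_closure ⟨2 * (i : ℕ), by simp [he]; omega, ?_⟩
      fin_cases i <;> simp [ev, evg]
  exact card_top_le b1 h2

/-- The relators of a certificate as elements of the free group. -/
def relators (C : VCert) : List (FreeGroup (Fin 3)) := C.rels.map (evW (evg FreeGroup.of))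

theorem lift_relator (v : Fin 3 → G) (w : List ℕ) :
    FreeGroup.lift v (evW (evg FreeGroup.of) w) = evW (evg v) w := by
  rw [map_evW]
  simp

/-- Presentations from certificates. -/
theorem hasPres_of_certs {T : Type*} [Group T] [Finite T] {C3 C4 : VCert} {v : Fin 3 → T}
    (hgen : Subgroup.closure (Set.range v) = ⊤) (hT : ∀ w ∈ C4.rels, evW (evg v) w = 1)
    (hb : ∀ (G : Type) (_ : Group G) (g : Fin 3 → G), Subgroup.closure (Set.range g) = ⊤ →
      (∀ w ∈ C4.rels, evW (evg g) w = 1) → Nat.card G ≠ 0 ∧ Nat.card G ≤ C4.R.N * (C3.R.N * 1))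
    (hcard : C4.R.N * (C3.R.N * 1) ≤ Nat.card T) : HasPres v C4.rels.length := by
  classical
  set R : Finset (FreeGroup (Fin 3)) := (relators C4).toFinset with hR
  have hrel : ∀ r ∈ (↑R : Set (FreeGroup (Fin 3))), FreeGroup.lift v r = 1 := by
    intro r hr
    obtain ⟨w, hw, rfl⟩ := List.mem_map.1 (List.mem_toFinset.1 (Finset.mem_coe.1 hr))
    rw [lift_relator, hT w hw]
  let φ : PresentedGroup (↑R : Set (FreeGroup (Fin 3))) →* T := PresentedGroup.toGroup hrel
  have hsurj : Function.Surjective φ := by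
    rw [← MonoidHom.range_eq_top, eq_top_iff, ← hgen, Subgroup.closure_le]
    rintro a ⟨i, rfl⟩
    exact ⟨PresentedGroup.of i, by simp [φ]⟩
  obtain ⟨hne, hle⟩ := hb (PresentedGroup (↑R : Set (FreeGroup (Fin 3)))) inferInstance
    (fun i => PresentedGroup.of i) (PresentedGroup.closure_range_of _) (fun w hw => by
      have hmem : evW (evg FreeGroup.of) w ∈ (↑R : Set (FreeGroup (Fin 3))) :=
        Finset.mem_coe.2 (List.mem_toFinset.2 (List.mem_map_of_mem hw))
      have := map_evW (PresentedGroup.mk (↑R : Set (FreeGroup (Fin 3)))) FreeGroup.of w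
      rw [PresentedGroup.one_of_mem hmem] at this
      exact this.symm)
  haveI : Finite (PresentedGroup (↑R : Set (FreeGroup (Fin 3)))) := Nat.finite_of_card_ne_zero hne
  have hbij : Function.Bijective φ := hsurj.bijective_of_nat_card_le (by omega)
  refine ⟨R, (List.toFinset_card_le _).trans (by simp [relators]), MulEquiv.ofBijective φ hbij, fun i => ?_⟩
  simp [φ]

namespace CodeCtx

variable (K : CodeCtx)

/-- The matrix of size four of a block. -/
def blkc (i k : ℕ) (u : List ℕ) : List ℕ := (List.range 16).map fun t =>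
  if i ≤ t / 4 ∧ t / 4 < i + k then
    (if i ≤ t % 4 ∧ t % 4 < i + k then u.getD (k * (t / 4 - i) + (t % 4 - i)) 0 else 0)
  else (if t / 4 = t % 4 then 1 else 0)

variable {K} {F : Type*} [Field F] [Fintype F] {ι : F}

theorem Ok.val_bk (h : K.Ok ι) {k i : ℕ} (hk : i + k ≤ 4) {g : Cfsg.SU k F K.p} {u : List ℕ}
    (hg : g.1.1 = K.toM ι k u) : (bk i hk g).1.1 = K.toM ι 4 (blkc i k u) := by
  refine Matrix.ext_of_mulVec_single fun b => funext fun a => ?_
  show act (bk i hk g) (Pi.single b 1) a = _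
  rw [mulVec_single_one, Matrix.col_apply, toM, Matrix.of_apply, blkc,
    List.getD_eq_getElem _ _ (by simp; omega), List.getElem_map, List.getElem_range,
    show (4 * (a : ℕ) + (b : ℕ)) / 4 = a by omega, show (4 * (a : ℕ) + (b : ℕ)) % 4 = b by omega]
  by_cases ha : i ≤ (a : ℕ) ∧ (a : ℕ) < i + k
  · rw [if_pos ha]
    obtain ⟨a', hlt, rfl⟩ : ∃ (a' : Fin k) (hlt : i + (a' : ℕ) < 4), a = ⟨i + a', hlt⟩ :=
      ⟨⟨a - i, by omega⟩, by simp only; omega, Fin.ext (by simp only; omega)⟩
    rw [act_bk_coord]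
    by_cases hb : i ≤ (b : ℕ) ∧ (b : ℕ) < i + k
    · rw [if_pos hb]
      obtain ⟨b', hlt', rfl⟩ : ∃ (b' : Fin k) (hlt' : i + (b' : ℕ) < 4), b = ⟨i + b', hlt'⟩ :=
        ⟨⟨b - i, by omega⟩, by simp only; omega, Fin.ext (by simp only; omega)⟩
      have e : (Pi.single (⟨i + (b' : ℕ), hlt'⟩ : Fin 4) (1 : F) : Fin 4 → F) ∘ seg i hk = Pi.single b' 1 := by
        funext c
        simp only [Function.comp_apply, seg, Pi.single_apply, Fin.ext_iff]
        simp
      rw [e]
      show (g.1.1 *ᵥ Pi.single b' 1) a' = _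
      rw [hg, mulVec_single_one, Matrix.col_apply, toM, Matrix.of_apply, Nat.add_sub_cancel_left,
        Nat.add_sub_cancel_left]
    · rw [if_neg hb, Ok.em_zero]
      have e : (Pi.single b (1 : F) : Fin 4 → F) ∘ seg i hk = 0 := by
        funext c
        simp only [Function.comp_apply, seg, Pi.single_apply, Fin.ext_iff, Pi.zero_apply]
        rw [if_neg (by omega)]
      rw [e]
      show (g.1.1 *ᵥ (0 : Fin k → F)) a' = 0
      simp
  · rw [if_neg ha, act_bk_out _ _ _ _ (by omega), Pi.single_apply]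
    by_cases hab : a = b
    · subst hab; simp [h.em_one]
    · rw [if_neg hab, if_neg (fun e => hab (Fin.ext e)), Ok.em_zero]

/-- The images of a word list. -/
theorem Ok.eq_word (h : K.Ok ι) {el : ℕ → Cfsg.SU 4 F K.p} {g : List (List ℕ)}
    (hel : ∀ x, x < g.length → (el x).1.1 = K.toM ι 4 (g.getD x idc)) (hone : ∀ x, g.length ≤ x → el x = 1)
    {s : Cfsg.SU 4 F K.p} {u w : List ℕ} (hs : s.1.1 = K.toM ι 4 u) (hw : K.evc g w = u) : evW el w = s :=
  Subtype.ext (Subtype.ext (by rw [h.evW_val hel hone w, hw, hs]))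

/-- The exchange of the first two and of the last two coordinates. -/
def swapc : List ℕ := [0, 1, 0, 0, 1, 0, 0, 0, 0, 0, 0, 1, 0, 0, 1, 0]

/-- The letters as matrices of size four. -/
def lettersFour (l : List (List ℕ)) : List (List ℕ) :=
  [blkc 0 3 (l.getD 0 []), blkc 0 3 (l.getD 1 []), blkc 0 3 (l.getD 2 []), blkc 0 3 (l.getD 3 []), swapc, swapc]

variable (F K) in
/-- The permutation of order two used as the third generator. -/
def cEl : Cfsg.SU 4 F K.p := pm F K.p 4
  ⟨Equiv.swap 0 1 * Equiv.swap 2 3, Equiv.Perm.mem_alternatingGroup.2 (by decide)⟩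

theorem cEl_val (h : K.Ok ι) : (cEl K F).1.1 = K.toM ι 4 swapc := by
  refine Matrix.ext_of_mulVec_single fun i => funext fun j => ?_
  show act (pm F K.p 4 _) (Pi.single i 1) j = _
  rw [act_pm, mulVec_single_one, Matrix.col_apply]
  fin_cases i <;> fin_cases j <;>
    simp [toM, swapc, h.em_one, Ok.em_zero, Equiv.swap_apply_def, Pi.single_apply, Fin.ext_iff]

/-- The generators attached to codes. -/
theorem Ok.exists_gens (h : K.Ok ι) (hF : Fintype.card F = K.p ^ 2) {l : List (List ℕ)}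
    (hl : ((List.range 4).all fun x => K.check3 (l.getD x [])) = true)
    (hi : ((List.range 6).all fun x => decide (K.evc (lettersFour l) [invTable.getD x 6, x] = idc)) = true) :
    ∃ v : Fin 3 → Cfsg.SU 4 F K.p, (∀ {w u : List ℕ} {s : Cfsg.SU 4 F K.p}, s.1.1 = K.toM ι 4 u →
      K.evc (lettersFour l) w = u → evW (evg v) w = s) ∧
      ∃ y : Fin 2 → Cfsg.SU 3 F K.p, v 0 = bk 0 (by omega) (y 0) ∧ v 1 = bk 0 (by omega) (y 1) := by
  simp only [List.all_eq_true, List.mem_range, decide_eq_true_eq] at hl hi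
  let b : (x : ℕ) → x < 4 → Cfsg.SU 4 F K.p := fun x hx => bk 0 (by omega) (mk3 h hF (hl x hx))
  let el : ℕ → Cfsg.SU 4 F K.p := fun x =>
    [b 0 (by omega), b 1 (by omega), b 2 (by omega), b 3 (by omega), cEl K F, cEl K F].getD x 1
  have hb : ∀ x hx, (b x hx).1.1 = K.toM ι 4 (blkc 0 3 (l.getD x [])) := fun x hx =>
    h.val_bk (i := 0) (k := 3) (by omega) rfl
  have hel : ∀ x, x < (lettersFour l).length → (el x).1.1 = K.toM ι 4 ((lettersFour l).getD x idc) := by
    intro x hx
    have hx' : x < 6 := hx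
    interval_cases x
    · exact hb 0 (by norm_num)
    · exact hb 1 (by norm_num)
    · exact hb 2 (by norm_num)
    · exact hb 3 (by norm_num)
    · exact cEl_val h
    · exact cEl_val h
  have hone : ∀ x, (lettersFour l).length ≤ x → el x = 1 := fun x hx => by
    simp only [el]
    rw [List.getD_eq_getElem?_getD, List.getElem?_eq_none (by simpa [lettersFour] using hx)]
    rfl
  have hinv : ∀ x, x < 6 → el (invTable.getD x 6) * el x = 1 := by
    intro x hx
    have := h.eq_word hel hone (s := 1) (u := idc) (by rw [h.toM_idc]; rfl) (hi x hx)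
    simpa [evW] using this
  have heq : evg ![el 0, el 2, el 4] = el := by
    funext x
    rcases (show x < 6 ∨ 6 ≤ x by omega) with hx | hx
    · interval_cases x
      · rfl
      · exact (eq_inv_of_mul_eq_one_right (hinv 1 (by omega))).symm
      · rfl
      · exact (eq_inv_of_mul_eq_one_right (hinv 3 (by omega))).symm
      · rfl
      · exact (eq_inv_of_mul_eq_one_right (hinv 5 (by omega))).symm
    · rw [hone x hx, evg, List.getD_eq_getElem?_getD, List.getElem?_eq_none (by simpa using hx)]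
      rfl
  refine ⟨![el 0, el 2, el 4], fun {w u s} hs hw => ?_,
    ![mk3 h hF (hl 0 (by norm_num)), mk3 h hF (hl 2 (by norm_num))], rfl, rfl⟩
  rw [heq]
  exact h.eq_word hel hone hs hw

end CodeCtx

theorem evW_mem_closure (v : Fin 3 → G) (w : List ℕ) : evW (evg v) w ∈ Subgroup.closure (Set.range v) := by
  refine list_prod_mem fun y hy => ?_
  obtain ⟨x, -, rfl⟩ := List.mem_map.1 hy
  rcases (show x < 6 ∨ 6 ≤ x by omega) with hx | hx
  · interval_cases x <;> simp [evg] <;> first
      | exact Subgroup.subset_closure ⟨_, rfl⟩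
      | exact inv_mem (Subgroup.subset_closure ⟨_, rfl⟩)
  · rw [evg, List.getD_eq_getElem?_getD, List.getElem?_eq_none (by simpa using hx)]
    exact one_mem _

variable {F : Type*} [Field F] [Fintype F]

open SmallData

theorem check_two : (SUFourTwoCert.cert.rels.all fun w =>
    decide (ctxTwo.evc (CodeCtx.lettersFour lettersTwo) w = CodeCtx.idc)) = true := by decide +kernel

theorem check_three : (SUFourThreeCert.cert.rels.all fun w =>
    decide (ctxThree.evc (CodeCtx.lettersFour lettersThree) w = CodeCtx.idc)) = true := by decide +kernel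

/-- The targets of the words for `SU_4(2)`. -/
def targetsTwo : List (List ℕ) := [0, 1].flatMap fun i =>
  [CodeCtx.blkc i 2 [2, 0, 0, 3], CodeCtx.blkc i 2 [0, 1, 1, 0], CodeCtx.blkc (i + 1) 2 [2, 0, 0, 3],
    CodeCtx.blkc (i + 1) 2 [0, 1, 1, 0], CodeCtx.blkc i 3 [1, 1, 1, 1, 2, 3, 1, 3, 2],
    CodeCtx.blkc i 3 [1, 1, 3, 1, 2, 2, 2, 1, 2], CodeCtx.blkc i 3 [1, 1, 2, 1, 2, 1, 3, 2, 2]]

theorem words_two : ((List.range 14).all fun j =>
    decide (ctxTwo.evc (CodeCtx.lettersFour lettersTwo) (wordsTwo.getD j []) = targetsTwo.getD j [])) = true := by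
  decide +kernel

/-- The targets of the words for `SU_4(3)`. -/
def targetsThree : List (List ℕ) := [0, 1, 2].flatMap fun i =>
  [CodeCtx.blkc i 2 [3, 0, 0, 6], CodeCtx.blkc i 2 [0, 2, 1, 0], CodeCtx.blkc i 2 [4, 8, 7, 7]]

theorem words_three : ((List.range 9).all fun j =>
    decide (ctxThree.evc (CodeCtx.lettersFour lettersThree) (wordsThree.getD j []) = targetsThree.getD j [])) = true := by
  decide +kernel

/-- The blocks of `SU_4(2)` on three coordinates from the targets. -/
theorem block_two (hF : Fintype.card F = 2 ^ 2) {ω : F} (hω : ω * ω + ω + 1 = 0) (h : ctxTwo.Ok ω)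
    (S : Subgroup (Cfsg.SU 4 F 2)) (i : ℕ) (hi : i + 3 ≤ 4)
    (hmem : ∀ j < 7, ∀ s : Cfsg.SU 4 F 2, s.1.1 = ctxTwo.toM ω 4 (targetsTwo.getD (7 * i + j) []) → s ∈ S)
    (g : Cfsg.SU 3 F 2) : bk i hi g ∈ S := by
  have h2 := Two.two_eq_zero hF
  have e2 : ω ^ 2 = ω + 1 := by linear_combination hω - (1 + ω) * h2
  have htt : (Two.tt hF hω).1.1 = ctxTwo.toM ω 2 [2, 0, 0, 3] := by
    rw [Two.tt_val, e2]
    ext a b; fin_cases a <;> fin_cases b <;> simp [CodeCtx.toM, CodeCtx.em, ctxTwo] <;> ring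
  have hww : (Two.ww hF).1.1 = ctxTwo.toM ω 2 [0, 1, 1, 0] := by
    rw [Two.ww_val]
    ext a b; fin_cases a <;> fin_cases b <;> simp [CodeCtx.toM, CodeCtx.em, ctxTwo]
  suffices (S.comap (bk i hi)) = ⊤ by
    exact Subgroup.mem_comap.1 (this ▸ Subgroup.mem_top g)
  have hi' : i = 0 ∨ i = 1 := by omega
  refine Two.gen_su3 hF hω (fun g => ?_) (fun g => ?_) (fun k => ?_)
  · suffices h' : (S.comap ((bk i hi).comp b01)) = ⊤ from
      (Subgroup.mem_comap.1 (h' ▸ Subgroup.mem_top g) : _)
    refine Two.gen_su2 hF hω ?_ ?_ <;> refine Subgroup.mem_comap.2 ?_ <;> rw [MonoidHom.comp_apply, b01,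
      bk_bk i 0 hi (by omega) (by omega)]
    · rcases hi' with rfl | rfl
      · exact hmem 0 (by norm_num) _ (h.val_bk (i := 0) (k := 2) _ htt)
      · exact hmem 0 (by norm_num) _ (h.val_bk (i := 1) (k := 2) _ htt)
    · rcases hi' with rfl | rfl
      · exact hmem 1 (by norm_num) _ (h.val_bk (i := 0) (k := 2) _ hww)
      · exact hmem 1 (by norm_num) _ (h.val_bk (i := 1) (k := 2) _ hww)
  · suffices h' : (S.comap ((bk i hi).comp b12)) = ⊤ from
      (Subgroup.mem_comap.1 (h' ▸ Subgroup.mem_top g) : _)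
    refine Two.gen_su2 hF hω ?_ ?_ <;> refine Subgroup.mem_comap.2 ?_ <;> rw [MonoidHom.comp_apply, b12,
      bk_bk i 1 hi (by omega) (by omega)]
    · rcases hi' with rfl | rfl
      · exact hmem 2 (by norm_num) _ (h.val_bk (i := 1) (k := 2) _ htt)
      · exact hmem 2 (by norm_num) _ (h.val_bk (i := 2) (k := 2) _ htt)
    · rcases hi' with rfl | rfl
      · exact hmem 3 (by norm_num) _ (h.val_bk (i := 1) (k := 2) _ hww)
      · exact hmem 3 (by norm_num) _ (h.val_bk (i := 2) (k := 2) _ hww)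
  · refine Subgroup.mem_comap.2 ?_
    obtain ⟨m, hm, u, hu, hval⟩ : ∃ m, m < 3 ∧ ∃ u, u = [[1, 1, 1, 1, 2, 3, 1, 3, 2],
        [1, 1, 3, 1, 2, 2, 2, 1, 2], [1, 1, 2, 1, 2, 1, 3, 2, 2]].getD m [] ∧
        (Two.hc hF hω k).1.1 = ctxTwo.toM ω 3 u := by
      have key : ∀ c : Fˣ, (Two.hc hF hω c).1.1 = Matrix.of fun a b =>
          ((![1, 1, c] : Fin 3 → Fˣ) a : F) * (!![1, 1, 1; 1, ω, ω ^ 2; 1, ω ^ 2, ω] : Matrix (Fin 3) (Fin 3) F) a b *
            (((![1, 1, c] : Fin 3 → Fˣ) b)⁻¹ : Fˣ).1 := fun c => by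
        ext a b; rw [Two.hc, Two.T_apply]; rfl
      have w3 := Two.omega_cube hω
      rcases Two.elems hF hω (k : F) with e | e | e | e
      · exact absurd e k.ne_zero
      · obtain rfl : k = 1 := Units.ext e
        refine ⟨0, by norm_num, _, rfl, ?_⟩
        rw [key]; ext a b
        fin_cases a <;> fin_cases b <;> simp [CodeCtx.toM, CodeCtx.em, ctxTwo] <;> linear_combination e2
      · refine ⟨1, by norm_num, _, rfl, ?_⟩
        have ei : ((k⁻¹ : Fˣ) : F) = ω + 1 := by
          rw [Units.val_inv_eq_inv_val, e, ← e2]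
          exact inv_eq_of_mul_eq_one_right (by linear_combination w3)
        rw [key]; ext a b
        fin_cases a <;> fin_cases b <;> simp [CodeCtx.toM, CodeCtx.em, ctxTwo] <;> grind
      · refine ⟨2, by norm_num, _, rfl, ?_⟩
        have ei : ((k⁻¹ : Fˣ) : F) = ω := by
          rw [Units.val_inv_eq_inv_val, e]
          exact inv_eq_of_mul_eq_one_right (by linear_combination w3)
        rw [key]; ext a b
        fin_cases a <;> fin_cases b <;> simp [CodeCtx.toM, CodeCtx.em, ctxTwo] <;> grind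
    rcases hi' with rfl | rfl <;> interval_cases m <;> subst hu
    · exact hmem 4 (by norm_num) _ (h.val_bk (i := 0) (k := 3) _ hval)
    · exact hmem 5 (by norm_num) _ (h.val_bk (i := 0) (k := 3) _ hval)
    · exact hmem 6 (by norm_num) _ (h.val_bk (i := 0) (k := 3) _ hval)
    · exact hmem 4 (by norm_num) _ (h.val_bk (i := 1) (k := 3) _ hval)
    · exact hmem 5 (by norm_num) _ (h.val_bk (i := 1) (k := 3) _ hval)
    · exact hmem 6 (by norm_num) _ (h.val_bk (i := 1) (k := 3) _ hval)


/-- A presentation of `SU_4(2)`. -/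
theorem su_four_two (hF : Fintype.card F = 2 ^ 2) : ∃ v : Fin 3 → Cfsg.SU 4 F 2, HasPres v 9 := by
  obtain ⟨ω, hω⟩ := Two.exists_omega hF
  have h2 := Two.two_eq_zero hF
  have h : ctxTwo.Ok ω := ⟨Nat.prime_two, ringChar.of_eq (CharP.ringChar_of_prime_eq_zero Nat.prime_two (by exact_mod_cast h2)), by
    simp [ctxTwo]; linear_combination hω - (1 + ω) * h2⟩
  obtain ⟨v, hv⟩ : ∃ v : Fin 3 → Cfsg.SU 4 F 2, ∀ {w u : List ℕ} {s : Cfsg.SU 4 F 2},
      s.1.1 = ctxTwo.toM ω 4 u → ctxTwo.evc (CodeCtx.lettersFour lettersTwo) w = u → evW (evg v) w = s :=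
    let ⟨v, hv, _⟩ := h.exists_gens hF (l := lettersTwo) (by decide +kernel) (by decide +kernel); ⟨v, hv⟩
  have hT : ∀ w ∈ SUFourTwoCert.cert.rels, evW (evg v) w = 1 := fun w hw => by
    have := check_two
    simp only [List.all_eq_true, decide_eq_true_eq] at this
    exact hv (u := CodeCtx.idc) (by rw [h.toM_idc]; rfl) (this w hw)
  set S := Subgroup.closure (Set.range v) with hS
  have hmem : ∀ j < 14, ∀ s : Cfsg.SU 4 F 2, s.1.1 = ctxTwo.toM ω 4 (targetsTwo.getD j []) → s ∈ S := by
    intro j hj s hs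
    have := words_two
    simp only [List.all_eq_true, List.mem_range, decide_eq_true_eq] at this
    have e := hv hs (this j hj)
    exact e ▸ evW_mem_closure v _
  have hgen : S = ⊤ := Two.closure_triples hF 4 (by norm_num) S fun i hi g =>
    block_two hF hω h S i hi (fun j hj => hmem (7 * i + j) (by omega)) g
  refine ⟨v, (hasPres_of_certs (C3 := SUThreeTwoCert.cert) hgen hT (fun G _ g hg hr => card_bound
    SUThreeTwoCert.cert_ok SUFourTwoCert.cert_ok rfl rfl (by decide +kernel) (by decide +kernel)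
    (by decide +kernel) rfl rfl g hg hr) ?_).mono (le_of_eq (by decide +kernel))⟩
  have hc := card_SU_mul hF (show 1 ≤ 4 by norm_num)
  rw [card_GU hF 4] at hc
  simp [Finset.prod_range_succ, Nat.even_iff] at hc
  show 120 * (216 * 1) ≤ _
  omega

/-- A presentation of `SU_4(3)`. -/
theorem su_four_three (hF : Fintype.card F = 3 ^ 2) : ∃ v : Fin 3 → Cfsg.SU 4 F 3, HasPres v 15 := by
  obtain ⟨ι, hι⟩ := Nine.exists_iota hF
  have h3 := Nine.three_eq_zero hF
  have h : ctxThree.Ok ι := ⟨Nat.prime_three, ringChar.of_eq (CharP.ringChar_of_prime_eq_zero Nat.prime_three (by exact_mod_cast h3)), by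
    simp [ctxThree]; linear_combination hι - h3⟩
  obtain ⟨v, hv⟩ : ∃ v : Fin 3 → Cfsg.SU 4 F 3, ∀ {w u : List ℕ} {s : Cfsg.SU 4 F 3},
      s.1.1 = ctxThree.toM ι 4 u → ctxThree.evc (CodeCtx.lettersFour lettersThree) w = u → evW (evg v) w = s :=
    let ⟨v, hv, _⟩ := h.exists_gens hF (l := lettersThree) (by decide +kernel) (by decide +kernel); ⟨v, hv⟩
  have hT : ∀ w ∈ SUFourThreeCert.cert.rels, evW (evg v) w = 1 := fun w hw => by
    have := check_three
    simp only [List.all_eq_true, decide_eq_true_eq] at this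
    exact hv (u := CodeCtx.idc) (by rw [h.toM_idc]; rfl) (this w hw)
  set S := Subgroup.closure (Set.range v) with hS
  have hmem : ∀ j < 9, ∀ s : Cfsg.SU 4 F 3, s.1.1 = ctxThree.toM ι 4 (targetsThree.getD j []) → s ∈ S := by
    intro j hj s hs
    have := words_three
    simp only [List.all_eq_true, List.mem_range, decide_eq_true_eq] at this
    have e := hv hs (this j hj)
    exact e ▸ evW_mem_closure v _
  have hdd : (Nine.dd hF hι).1.1 = ctxThree.toM ι 2 [3, 0, 0, 6] := by
    rw [Nine.dd_val]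
    ext a b; fin_cases a <;> fin_cases b <;> simp [CodeCtx.toM, CodeCtx.em, ctxThree] <;>
      linear_combination -ι * h3
  have hww : (Nine.ww hF).1.1 = ctxThree.toM ι 2 [0, 2, 1, 0] := by
    rw [Nine.ww_val]
    ext a b; fin_cases a <;> fin_cases b <;> simp [CodeCtx.toM, CodeCtx.em, ctxThree] <;>
      linear_combination -h3
  have huu : (Nine.uu hF hι).1.1 = ctxThree.toM ι 2 [4, 8, 7, 7] := by
    rw [Nine.uu_val]
    ext a b; fin_cases a <;> fin_cases b <;> simp [CodeCtx.toM, CodeCtx.em, ctxThree] <;>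
      grind
  have hgen : S = ⊤ := by
    refine closure_blocks hF le_rfl 4 (by norm_num) S fun i hi g => ?_
    suffices (S.comap (bk i hi)) = ⊤ by
      exact Subgroup.mem_comap.1 (this ▸ Subgroup.mem_top g)
    have hi' : i = 0 ∨ i = 1 ∨ i = 2 := by omega
    refine Nine.gen_su2 hF hι ?_ ?_ ?_ <;> refine Subgroup.mem_comap.2 ?_ <;> rcases hi' with rfl | rfl | rfl
    · exact hmem 0 (by norm_num) _ (h.val_bk (i := 0) (k := 2) _ hdd)
    · exact hmem 3 (by norm_num) _ (h.val_bk (i := 1) (k := 2) _ hdd)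
    · exact hmem 6 (by norm_num) _ (h.val_bk (i := 2) (k := 2) _ hdd)
    · exact hmem 1 (by norm_num) _ (h.val_bk (i := 0) (k := 2) _ hww)
    · exact hmem 4 (by norm_num) _ (h.val_bk (i := 1) (k := 2) _ hww)
    · exact hmem 7 (by norm_num) _ (h.val_bk (i := 2) (k := 2) _ hww)
    · exact hmem 2 (by norm_num) _ (h.val_bk (i := 0) (k := 2) _ huu)
    · exact hmem 5 (by norm_num) _ (h.val_bk (i := 1) (k := 2) _ huu)
    · exact hmem 8 (by norm_num) _ (h.val_bk (i := 2) (k := 2) _ huu)
  refine ⟨v, (hasPres_of_certs (C3 := SUThreeThreeCert.cert) hgen hT (fun G _ g hg hr => card_bound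
    SUThreeThreeCert.cert_ok SUFourThreeCert.cert_ok rfl rfl (by decide +kernel) (by decide +kernel)
    (by decide +kernel) rfl rfl g hg hr) ?_).mono (le_of_eq (by decide +kernel))⟩
  have hc := card_SU_mul hF (show 1 ≤ 4 by norm_num)
  rw [card_GU hF 4] at hc
  simp [Finset.prod_range_succ, Nat.even_iff] at hc
  show 2160 * (6048 * 1) ≤ _
  omega

/-- Two generators of `SU_3(2)`. -/
theorem su3_two_gen (hF : Fintype.card F = 2 ^ 2) :
    ∃ Y : Fin 2 → Cfsg.SU 3 F 2, Subgroup.closure (Set.range Y) = ⊤ := by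
  obtain ⟨ω, hω⟩ := Two.exists_omega hF
  have h2 := Two.two_eq_zero hF
  have h : ctxTwo.Ok ω := ⟨Nat.prime_two, ringChar.of_eq (CharP.ringChar_of_prime_eq_zero Nat.prime_two (by exact_mod_cast h2)), by
    simp [ctxTwo]; linear_combination hω - (1 + ω) * h2⟩
  obtain ⟨v, hv, y, hy0, hy1⟩ := h.exists_gens hF (l := lettersTwo) (by decide +kernel) (by decide +kernel)
  refine ⟨y, eq_top_iff.2 fun g _ => ?_⟩
  set S := (Subgroup.closure (Set.range y)).map (bk (F := F) (q := 2) 0 (show 0 + 3 ≤ 4 by omega)) with hS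
  have hin : bk 0 (show 0 + 3 ≤ 4 by omega) g ∈ S := by
    refine block_two hF hω h S 0 (by omega) (fun j hj s hs => ?_) g
    have hw := words_two
    simp only [List.all_eq_true, List.mem_range, decide_eq_true_eq] at hw
    have hlt : ∀ x ∈ wordsTwo.getD (7 * 0 + j) [], x < 4 := by
      have : ((List.range 7).all fun j => (wordsTwo.getD (7 * 0 + j) []).all fun x => decide (x < 4)) = true := by
        decide +kernel
      simp only [List.all_eq_true, List.mem_range, decide_eq_true_eq] at this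
      exact this j hj
    rw [← hv hs (hw (7 * 0 + j) (by omega))]
    refine list_prod_mem fun z hz => ?_
    obtain ⟨x, hx, rfl⟩ := List.mem_map.1 hz
    have := hlt x hx
    interval_cases x <;> simp [evg, hy0, hy1, hS] <;> first
      | exact Subgroup.subset_closure ⟨_, rfl⟩
      | exact inv_mem (Subgroup.subset_closure ⟨_, rfl⟩)
      | exact ⟨_, Subgroup.subset_closure ⟨_, rfl⟩, rfl⟩
      | exact ⟨_, inv_mem (Subgroup.subset_closure ⟨_, rfl⟩), map_inv _ _⟩
  obtain ⟨g', hg', e⟩ := hin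
  exact bk_injective (F := F) (q := 2) 0 (show 0 + 3 ≤ 4 by omega) e ▸ hg'

end CfsgLib.SUPresent
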