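import Cfsg.Agent.Lib.SUPresent.CoreSmall
import Cfsg.Agent.Lib.SUPresent.SmallFour
import Cfsg.Agent.Lib.SUPresent.Main

/-!
Presentations of `SU_n(2)` and `SU_n(3)`, `n ≥ 5`, on six generators.
-/

set_option autoImplicit false
set_option linter.unusedSectionVars false

namespace CfsgLib.SUPresent

noncomputable section

open Matrix Equiv CfsgLib.Phan CfsgLib.ClassicalGroups CfsgLib.SymPresent

variable {F : Type*} [Field F] [Fintype F] {q n : ℕ}

/-- Words in the permutations and the copy of `SU_4`. -/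
abbrev GWord (F : Type*) [Field F] (q n : ℕ) : Type _ :=
  List (alternatingGroup (Fin n) ⊕ Cfsg.SU 4 F q)

/-- The value of a word. -/
def evG {G : Type*} [Group G] (ρ : alternatingGroup (Fin n) →* G) (F4 : Cfsg.SU 4 F q →* G) (w : GWord F q n) :
    G :=
  (w.map (Sum.elim ρ F4)).prod

theorem map_evG {H G : Type*} [Group H] [Group G] (f : H →* G) {α : alternatingGroup (Fin n) → H}
    {β : Cfsg.SU 4 F q → H} {ρ : alternatingGroup (Fin n) →* G} {F4 : Cfsg.SU 4 F q →* G}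
    (h1 : ∀ g, f (α g) = ρ g) (h2 : ∀ g, f (β g) = F4 g) (w : GWord F q n) :
    f (w.map (Sum.elim α β)).prod = evG ρ F4 w := by
  simp only [evG, map_list_prod, List.map_map]
  congr 1
  refine List.map_congr_left fun g _ => ?_
  rcases g with g | g
  exacts [h1 g, h2 g]

/-- Gluing a presentation of the alternating group and one of `SU_4` along given relations. -/
theorem glue4 (hn : 4 ≤ n) {ι κ : Type}
    {a : ι → alternatingGroup (Fin n)} {b : κ → ↥(Cfsg.SU 4 F q)} {r s : ℕ} (ha : HasPres a r)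
    (hb : HasPres b s) (E : List (GWord F q n))
    (hE : ∀ w ∈ E, evG (pm F q n) (bk 0 (show 0 + 4 ≤ n by omega)) w = 1)
    (hgen : Subgroup.closure (Set.range (pm F q n) ∪
      Set.range (bk (F := F) (q := q) 0 (show 0 + 4 ≤ n by omega))) = ⊤)
    (hcomp : ∀ (G : Type) [Group G] (ρ : alternatingGroup (Fin n) →* G) (F4 : Cfsg.SU 4 F q →* G),
      (∀ w ∈ E, evG ρ F4 w = 1) → Subgroup.closure (Set.range ρ ∪ Set.range F4) = ⊤ →
      ∃ f : Cfsg.SU n F q →* G, Function.Surjective f) :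
    ∃ v : ι ⊕ κ → ↥(Cfsg.SU n F q), HasPres v (r + s + E.length) := by
  classical
  obtain ⟨RA, hRA, hRA1, homA⟩ := exists_hom_of_pres ha
  obtain ⟨RM, hRM, hRM1, homM⟩ := exists_hom_of_pres hb
  have wordA : ∀ g, ∃ w, FreeGroup.lift a w = g := fun g => by
    have : g ∈ (FreeGroup.lift a).range := by
      rw [FreeGroup.range_lift_eq_closure, ha.closure_eq_top]; exact Subgroup.mem_top g
    exact this
  have wordM : ∀ g, ∃ w, FreeGroup.lift b w = g := fun g => by
    have : g ∈ (FreeGroup.lift b).range := by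
      rw [FreeGroup.range_lift_eq_closure, hb.closure_eq_top]; exact Subgroup.mem_top g
    exact this
  choose wa hwa using wordA
  choose wm hwm using wordM
  let A : FreeGroup ι →* FreeGroup (ι ⊕ κ) := FreeGroup.map Sum.inl
  let B : FreeGroup κ →* FreeGroup (ι ⊕ κ) := FreeGroup.map Sum.inr
  set M₀ : Cfsg.SU 4 F q →* Cfsg.SU n F q := bk 0 (show 0 + 4 ≤ n by omega)
  set v : ι ⊕ κ → ↥(Cfsg.SU n F q) := Sum.elim (fun i => pm F q n (a i)) (fun k => M₀ (b k)) with hv
  have hvA : ∀ w, FreeGroup.lift v (A w) = pm F q n (FreeGroup.lift a w) := fun w =>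
    DFunLike.congr_fun (FreeGroup.ext_hom ((FreeGroup.lift v).comp A) ((pm F q n).comp (FreeGroup.lift a))
      fun i => by simp [A, hv]) w
  have hvB : ∀ w, FreeGroup.lift v (B w) = M₀ (FreeGroup.lift b w) := fun w =>
    DFunLike.congr_fun (FreeGroup.ext_hom ((FreeGroup.lift v).comp B) (M₀.comp (FreeGroup.lift b))
      fun i => by simp [B, hv]) w
  let tr : GWord F q n → FreeGroup (ι ⊕ κ) := fun w =>
    (w.map (Sum.elim (fun g => A (wa g)) (fun g => B (wm g)))).prod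
  set rels : Finset (FreeGroup (ι ⊕ κ)) := RA.image A ∪ RM.image B ∪ (E.map tr).toFinset with hrels
  have hcard : rels.card ≤ r + s + E.length := by
    refine (Finset.card_union_le _ _).trans (add_le_add ((Finset.card_union_le _ _).trans
      (add_le_add (Finset.card_image_le.trans hRA) (Finset.card_image_le.trans hRM))) ?_)
    exact (List.toFinset_card_le _).trans (by simp)
  have hmem : ∀ x ∈ (↑rels : Set (FreeGroup (ι ⊕ κ))), FreeGroup.lift v x = 1 := by
    intro x hx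
    rw [Finset.mem_coe, hrels, Finset.mem_union, Finset.mem_union, Finset.mem_image, Finset.mem_image,
      List.mem_toFinset] at hx
    rcases hx with (⟨y, hy, rfl⟩ | ⟨y, hy, rfl⟩) | hx
    · rw [hvA, hRA1 y hy, map_one]
    · rw [hvB, hRM1 y hy, map_one]
    · obtain ⟨w, hw, rfl⟩ := List.mem_map.1 hx
      rw [map_evG (FreeGroup.lift v) (ρ := pm F q n) (F4 := M₀) (fun g => by rw [hvA, hwa]) (fun g => by rw [hvB, hwm]) w, hE w hw]
  set P := PresentedGroup (↑rels : Set (FreeGroup (ι ⊕ κ)))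
  set m := PresentedGroup.mk (↑rels : Set (FreeGroup (ι ⊕ κ))) with hm
  have hm1 : ∀ x ∈ rels, m x = 1 := fun x hx => PresentedGroup.one_of_mem (Finset.mem_coe.2 hx)
  obtain ⟨ρ, hρ⟩ := homA (G := P) (m.comp A) fun x hx => hm1 _ (by
    simp only [hrels, Finset.mem_union, Finset.mem_image]; exact Or.inl (Or.inl ⟨x, hx, rfl⟩))
  obtain ⟨F4, hF4⟩ := homM (G := P) (m.comp B) fun x hx => hm1 _ (by
    simp only [hrels, Finset.mem_union, Finset.mem_image]; exact Or.inl (Or.inr ⟨x, hx, rfl⟩))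
  have hlA : ∀ g, m (A (wa g)) = ρ g := fun g => by
    conv_rhs => rw [← hwa g, hρ]
    rfl
  have hlM : ∀ g, m (B (wm g)) = F4 g := fun g => by
    conv_rhs => rw [← hwm g, hF4]
    rfl
  have hgenP : Subgroup.closure (Set.range ρ ∪ Set.range F4) = ⊤ := by
    rw [eq_top_iff, ← PresentedGroup.closure_range_of, Subgroup.closure_le]
    rintro _ ⟨i | k, rfl⟩
    · refine Subgroup.subset_closure (Or.inl ⟨a i, ?_⟩)
      rw [← FreeGroup.lift_apply_of (f := a) (x := i), hρ]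
      simp only [MonoidHom.comp_apply, A, FreeGroup.map.of]
      rfl
    · refine Subgroup.subset_closure (Or.inr ⟨b k, ?_⟩)
      rw [← FreeGroup.lift_apply_of (f := b) (x := k), hF4]
      simp only [MonoidHom.comp_apply, B, FreeGroup.map.of]
      rfl
  obtain ⟨f, hf⟩ := hcomp P ρ F4 (fun w hw => by
    rw [← map_evG m (ρ := ρ) (F4 := F4) hlA hlM w]
    exact hm1 _ (by rw [hrels, Finset.mem_union]; exact Or.inr (List.mem_toFinset.2 (List.mem_map_of_mem hw))))
    hgenP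
  obtain ⟨φ, hφ⟩ : ∃ φ : P →* ↥(Cfsg.SU n F q), ∀ i, φ (PresentedGroup.of i) = v i :=
    ⟨PresentedGroup.toGroup hmem, fun i => PresentedGroup.toGroup.of hmem⟩
  have hφm : ∀ x, φ (m x) = FreeGroup.lift v x := fun x =>
    DFunLike.congr_fun (FreeGroup.ext_hom (φ.comp m) (FreeGroup.lift v) fun i => by
      simp only [MonoidHom.comp_apply, FreeGroup.lift_apply_of]; exact hφ i) x
  have hφsurj : Function.Surjective φ := by
    rw [← MonoidHom.range_eq_top, eq_top_iff, ← hgen, Subgroup.closure_le]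
    rintro _ (⟨g, rfl⟩ | ⟨g, rfl⟩)
    exacts [⟨m (A (wa g)), by rw [hφm, hvA, hwa]⟩, ⟨m (B (wm g)), by rw [hφm, hvB, hwm]⟩]
  haveI : Finite P := Finite.of_surjective f hf
  have hbij : Function.Bijective φ :=
    (Nat.bijective_iff_surjective_and_card φ).2 ⟨hφsurj,
      le_antisymm (Nat.card_le_card_of_surjective f hf) (Nat.card_le_card_of_surjective φ hφsurj)⟩
  exact ⟨v, rels, hcard, MulEquiv.ofBijective φ hbij, hφ⟩

/-- An even permutation of four points on the first four of `n`. -/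
def lift4 (hn : 4 ≤ n) (τ : alternatingGroup (Fin 4)) : alternatingGroup (Fin n) :=
  ⟨(τ : Perm (Fin 4)).extendDomain (Equiv.ofInjective (i4 hn) (seg_injective 0 _)), Perm.mem_alternatingGroup.2 (by
    rw [Perm.sign_extendDomain]; exact Perm.mem_alternatingGroup.1 τ.2)⟩

theorem lift4_apply (hn : 4 ≤ n) (τ : alternatingGroup (Fin 4)) (a : Fin 4) :
    (lift4 hn τ : Perm (Fin n)) (i4 hn a) = i4 hn ((τ : Perm (Fin 4)) a) := by
  have := Perm.extendDomain_apply_image (τ : Perm (Fin 4)) (Equiv.ofInjective (i4 hn) (seg_injective 0 _)) a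
  simpa [lift4] using this

theorem lift4_out (hn : 4 ≤ n) (τ : alternatingGroup (Fin 4)) {x : Fin n} (hx : x ∉ Set.range (i4 hn)) :
    (lift4 hn τ : Perm (Fin n)) x = x := Perm.extendDomain_apply_not_subtype _ _ hx

/-- The rotation of three points. -/
def t3 : alternatingGroup (Fin 3) := ⟨finRotate 3, Perm.mem_alternatingGroup.2 (by decide)⟩

theorem c4_k3 : ∀ a : Fin 3, (c4 : Perm (Fin 4)) (k3 a) = k3 ((t3 : Perm (Fin 3)) a) := by
  unfold k3 seg c4 t3
  decide

theorem c4_three : (c4 : Perm (Fin 4)) 3 = 3 := by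
  unfold c4
  decide

theorem pm_c4 : pm F q 4 c4 = bk 0 (show 0 + 3 ≤ 4 by omega) (pm F q 3 t3) :=
  pm_eq_emb c4 t3 (seg_injective 0 _) c4_k3 fun x hx => by
    obtain rfl : x = 3 := by
      by_contra hne
      exact hx ⟨⟨x, by omega⟩, Fin.ext (by simp [seg])⟩
    exact c4_three

theorem lift_c4_spec (hn : 4 ≤ n) :
    (∀ a, (lift4 hn c4 : Perm (Fin n)) (i3 hn a) = i3 hn ((t3 : Perm (Fin 3)) a)) ∧
      ∀ x, x ∉ Set.range (i3 hn) → (lift4 hn c4 : Perm (Fin n)) x = x := by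
  refine ⟨fun a => ?_, fun x hx => ?_⟩
  · rw [show i3 hn a = i4 hn (k3 a) from (seg_i4 hn 0 (show 0 + 3 ≤ 4 by omega) (show 0 + 3 ≤ n by omega) a).symm,
      lift4_apply, c4_k3]
    exact seg_i4 hn 0 _ _ _
  · by_cases h : x ∈ Set.range (i4 hn)
    · obtain ⟨b, rfl⟩ := h
      obtain rfl : b = 3 := by
        by_contra hne
        exact hx ⟨⟨b, by omega⟩, Fin.ext (by simp [seg])⟩
      rw [lift4_apply, c4_three]
    · exact lift4_out hn c4 h

section relations

variable {G : Type*} [Group G] (ρ : alternatingGroup (Fin n) →* G) (F4 : Cfsg.SU 4 F q →* G)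

/-- A permutation in both copies. -/
def eqRel (hn : 4 ≤ n) (τ : alternatingGroup (Fin 4)) : GWord F q n :=
  [Sum.inl (lift4 hn τ), Sum.inr (pm F q 4 τ)⁻¹]

/-- A conjugation. -/
def conjRel (σ : alternatingGroup (Fin n)) (x y : Cfsg.SU 4 F q) : GWord F q n :=
  [Sum.inl σ, Sum.inr x, Sum.inl σ⁻¹, Sum.inr y⁻¹]

/-- A commutation. -/
def commRel (σ : alternatingGroup (Fin n)) (x y : Cfsg.SU 4 F q) : GWord F q n :=
  [Sum.inr x, Sum.inl σ, Sum.inr y, Sum.inl σ⁻¹, Sum.inr x⁻¹, Sum.inl σ, Sum.inr y⁻¹, Sum.inl σ⁻¹]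

theorem evG_eqRel {hn : 4 ≤ n} {τ : alternatingGroup (Fin 4)} :
    evG ρ F4 (eqRel hn τ) = 1 ↔ ρ (lift4 hn τ) = F4 (pm F q 4 τ) := by
  simp [evG, eqRel, mul_inv_eq_one]

theorem evG_conjRel {σ : alternatingGroup (Fin n)} {x y : Cfsg.SU 4 F q} :
    evG ρ F4 (conjRel σ x y) = 1 ↔ ρ σ * F4 x * (ρ σ)⁻¹ = F4 y := by
  simp only [evG, conjRel, List.map_cons, List.map_nil, List.prod_cons, List.prod_nil, Sum.elim_inl, Sum.elim_inr,
    map_inv, mul_one, ← mul_assoc]
  exact mul_inv_eq_one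

theorem evG_commRel {σ : alternatingGroup (Fin n)} {x y : Cfsg.SU 4 F q} :
    evG ρ F4 (commRel σ x y) = 1 ↔ Commute (F4 x) (ρ σ * F4 y * (ρ σ)⁻¹) := by
  simp only [evG, commRel, List.map_cons, List.map_nil, List.prod_cons, List.prod_nil, Sum.elim_inl, Sum.elim_inr,
    map_inv, mul_one, Commute, SemiconjBy]
  rw [← mul_inv_eq_one (a := F4 x * (ρ σ * F4 y * (ρ σ)⁻¹))]
  constructor <;> intro h <;> rw [← h] <;> group

variable (F q) in
/-- The relations common to both fields. -/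
def relsFour (hn : 4 ≤ n) (T₁ T₂ : alternatingGroup (Fin n)) (t₁ t₂ : Fin 2 → Fin 2)
    (ht₁ : Function.Injective t₁) (ht₂ : Function.Injective t₂) (X : Fin 2 → Cfsg.SU 2 F q) : List (GWord F q n) :=
  [eqRel hn c4, eqRel hn s4,
    conjRel T₁ (bk 0 (by omega) (X 0)) (bk 0 (by omega) (emb t₁ ht₁ (X 0))),
    conjRel T₁ (bk 0 (by omega) (X 1)) (bk 0 (by omega) (emb t₁ ht₁ (X 1))),
    conjRel T₂ (bk 0 (by omega) (X 0)) (bk 0 (by omega) (emb t₂ ht₂ (X 0))),
    conjRel T₂ (bk 0 (by omega) (X 1)) (bk 0 (by omega) (emb t₂ ht₂ (X 1)))]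

theorem hyp4_of_rels (hn : 4 ≤ n) {T₁ T₂ : alternatingGroup (Fin n)} {t₁ t₂ : Fin 2 → Fin 2}
    {ht₁ : Function.Injective t₁} {ht₂ : Function.Injective t₂}
    (htt₁ : ∀ a, (T₁ : Perm (Fin n)) (i2 hn a) = i2 hn (t₁ a))
    (htt₂ : ∀ a, (T₂ : Perm (Fin n)) (i2 hn a) = i2 hn (t₂ a))
    (hT : stab2 n ≤ Subgroup.closure {T₁, T₂}) {X : Fin 2 → Cfsg.SU 2 F q}
    (hX : Subgroup.closure (Set.range X) = ⊤)
    (h : ∀ w ∈ relsFour F q hn T₁ T₂ t₁ t₂ ht₁ ht₂ X, evG ρ F4 w = 1) : Hyp4 hn ρ F4 := by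
  simp only [relsFour, List.mem_cons, List.not_mem_nil, or_false, forall_eq_or_imp, forall_eq, evG_eqRel,
    evG_conjRel] at h
  obtain ⟨hc, hs, r10, r11, r20, r21⟩ := h
  have hb : ∀ x, F4.comp (bk 0 (show 0 + 3 ≤ 4 by omega)) (b01 x) = F4 (bk 0 (show 0 + 2 ≤ 4 by omega) x) :=
    fun x => by rw [MonoidHom.comp_apply, b01, bk_bk 0 0 _ _ (by omega)]
  obtain ⟨hc1, hc2⟩ := lift_c4_spec hn
  refine ⟨⟨hc_of_gen hn ρ _ (τ₀ := t3) rfl hc1 hc2 (by rw [hc, pm_c4]; rfl),
    hst_of_gens hn ρ _ hX {T₁, T₂} hT ?_, lift4 hn s4, fun a => ?_, fun x y => ?_⟩,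
    ⟨_, lift4_apply hn c4, hc⟩, ⟨_, lift4_apply hn s4, hs⟩⟩
  · rintro τ (rfl | rfl)
    · refine ⟨t₁, ht₁, htt₁, fun k => ?_⟩
      rw [hb, hb]
      obtain rfl | rfl : k = 0 ∨ k = 1 := by omega
      exacts [r10, r11]
    · refine ⟨t₂, ht₂, htt₂, fun k => ?_⟩
      rw [hb, hb]
      obtain rfl | rfl : k = 0 ∨ k = 1 := by omega
      exacts [r20, r21]
  · rw [show i2 hn a = i4 hn (seg 0 (show 0 + 2 ≤ 4 by omega) a) from
      (seg_i4 hn 0 (show 0 + 2 ≤ 4 by omega) (show 0 + 2 ≤ n by omega) a).symm, lift4_apply, s4_spec]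
    exact seg_i4 hn 2 _ _ _
  · rw [hb, hb, hs, ← map_inv, ← map_mul, ← map_mul]
    refine Commute.map ?_ F4
    rw [show pm F q 4 s4 * bk 0 (show 0 + 2 ≤ 4 by omega) y * (pm F q 4 s4)⁻¹ = bk 2 (show 2 + 2 ≤ 4 by omega) y from
      pm_conj s4 _ (seg_injective 2 _) s4_spec y]
    exact bk_commute _ _ (by omega) x y

end relations

theorem bk4_bk {k : ℕ} (hn : 4 ≤ n) (hk : 0 + k ≤ 4) (x : Cfsg.SU k F q) :
    bk 0 (show 0 + 4 ≤ n by omega) (bk 0 hk x) = bk 0 (show 0 + k ≤ n by omega) x :=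
  bk_bk 0 0 _ _ (by omega) x

/-- The relations hold in the special unitary group. -/
theorem std_rels (hn : 4 ≤ n) {T₁ T₂ : alternatingGroup (Fin n)} {t₁ t₂ : Fin 2 → Fin 2}
    {ht₁ : Function.Injective t₁} {ht₂ : Function.Injective t₂}
    (htt₁ : ∀ a, (T₁ : Perm (Fin n)) (i2 hn a) = i2 hn (t₁ a))
    (htt₂ : ∀ a, (T₂ : Perm (Fin n)) (i2 hn a) = i2 hn (t₂ a)) (X : Fin 2 → Cfsg.SU 2 F q) :
    ∀ w ∈ relsFour F q hn T₁ T₂ t₁ t₂ ht₁ ht₂ X,
      evG (pm F q n) (bk 0 (show 0 + 4 ≤ n by omega)) w = 1 := by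
  have hconj : ∀ (T : alternatingGroup (Fin n)) (t : Fin 2 → Fin 2) (ht : Function.Injective t),
      (∀ a, (T : Perm (Fin n)) (i2 hn a) = i2 hn (t a)) → ∀ x,
      pm F q n T * bk 0 (show 0 + 4 ≤ n by omega) (bk 0 (show 0 + 2 ≤ 4 by omega) x) * (pm F q n T)⁻¹ =
        bk 0 (show 0 + 4 ≤ n by omega) (bk 0 (show 0 + 2 ≤ 4 by omega) (emb t ht x)) := fun T t ht h x => by
    rw [bk4_bk hn, bk4_bk hn, bk, pm_conj T _ ((seg_injective 0 (show 0 + 2 ≤ n by omega)).comp ht) h, emb_comp]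
    rfl
  have heq : ∀ τ, pm F q n (lift4 hn τ) = bk 0 (show 0 + 4 ≤ n by omega) (pm F q 4 τ) := fun τ =>
    pm_eq_emb _ τ (seg_injective 0 _) (lift4_apply hn τ) fun x hx => lift4_out hn τ hx
  simp only [relsFour, List.mem_cons, List.not_mem_nil, or_false, forall_eq_or_imp, forall_eq, evG_eqRel,
    evG_conjRel]
  exact ⟨heq _, heq _, hconj _ _ _ htt₁ _, hconj _ _ _ htt₁ _, hconj _ _ _ htt₂ _, hconj _ _ _ htt₂ _⟩

/-- Nine elements in the field: six generators and twenty-eight relations. -/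
theorem glue_three (hF : Fintype.card F = q ^ 2) (hq : 3 ≤ q) (hn : 5 ≤ n) {r s : ℕ}
    {a : Fin 3 → alternatingGroup (Fin n)} {b : Fin 3 → ↥(Cfsg.SU 4 F q)}
    (ha : HasPres a r) (hb : HasPres b s) :
    ∃ v : Fin 6 → ↥(Cfsg.SU n F q), HasPres v (r + s + 6) := by
  have hn4 : 4 ≤ n := by omega
  obtain ⟨X, hX⟩ := su_two_gen hF
  obtain ⟨T₁, T₂, hT₁, hT₂, hTgen, -⟩ := exists_stab_gens hn4
  obtain ⟨t₁, ht₁, htt₁⟩ := stab2_pair (hn := show 0 + 2 ≤ n by omega) hT₁
  obtain ⟨t₂, ht₂, htt₂⟩ := stab2_pair (hn := show 0 + 2 ≤ n by omega) hT₂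
  have hgen : Subgroup.closure (Set.range (pm F q n) ∪
      Set.range (bk (F := F) (q := q) 0 (show 0 + 4 ≤ n by omega))) = ⊤ := by
    rw [eq_top_iff, ← std_gen hF hq hn4]
    refine Subgroup.closure_mono (Set.union_subset_union_right _ ?_)
    rintro _ ⟨x, rfl⟩
    exact ⟨bk 0 (show 0 + 3 ≤ 4 by omega) x, bk4_bk hn4 _ x⟩
  obtain ⟨v, hv⟩ := glue4 hn4 ha hb _ (std_rels hn4 (ht₁ := ht₁) (ht₂ := ht₂) htt₁ htt₂ X) hgen
    fun G _ ρ F4 hrel hg =>
      Hyp4.exists_surjective_three hn (hyp4_of_rels ρ F4 hn4 htt₁ htt₂ hTgen hX hrel) hF hq hg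
  obtain ⟨w, hw⟩ := hasPres_pad' (k := 6) (by simp) hv
  exact ⟨w, hw.mono (by simp [relsFour])⟩

/-- Four elements in the field: six generators and eighteen relations besides the pieces. -/
theorem glue_two (hF : Fintype.card F = 2 ^ 2) (hn : 5 ≤ n) {r s : ℕ}
    {a : Fin 3 → alternatingGroup (Fin n)} {b : Fin 3 → ↥(Cfsg.SU 4 F 2)}
    (ha : HasPres a r) (hb : HasPres b s) :
    ∃ v : Fin 6 → ↥(Cfsg.SU n F 2), HasPres v (r + s + (14 + if 6 ≤ n then 4 else 0)) := by
  classical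
  have hn4 : 4 ≤ n := by omega
  obtain ⟨X, hX⟩ := su_two_gen hF
  obtain ⟨Y, hY⟩ := su3_two_gen hF
  obtain ⟨T₁, T₂, hT₁, hT₂, hTgen, -⟩ := exists_stab_gens hn4
  obtain ⟨t₁, ht₁, htt₁⟩ := stab2_pair (hn := show 0 + 2 ≤ n by omega) hT₁
  obtain ⟨t₂, ht₂, htt₂⟩ := stab2_pair (hn := show 0 + 2 ≤ n by omega) hT₂
  obtain ⟨U₁, U₂, hU₁, hU₂, hUgen⟩ := exists_stab3_gens hn
  obtain ⟨u₁, hu₁, huu₁⟩ := stab3_triple (hn := show 0 + 3 ≤ n by omega) hU₁
  obtain ⟨u₂, hu₂, huu₂⟩ := stab3_triple (hn := show 0 + 3 ≤ n by omega) hU₂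
  obtain ⟨g5, hg5⟩ := exists_even_free (seg_injective 0 (show 0 + 2 ≤ n by omega))
    (seg_injective 3 (show 3 + 2 ≤ n by omega)) hn4
  have h04 : (0 : ℕ) + 3 ≤ 4 := by omega
  set j : Cfsg.SU 3 F 2 →* Cfsg.SU 4 F 2 := bk 0 h04 with hj
  set E2 : List (GWord F 2 n) := relsFour F 2 hn4 T₁ T₂ t₁ t₂ ht₁ ht₂ X ++
    [conjRel U₁ (j (Y 0)) (j (emb u₁ hu₁ (Y 0))), conjRel U₁ (j (Y 1)) (j (emb u₁ hu₁ (Y 1))),
      conjRel U₂ (j (Y 0)) (j (emb u₂ hu₂ (Y 0))), conjRel U₂ (j (Y 1)) (j (emb u₂ hu₂ (Y 1))),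
      commRel g5 (j (Y 0)) (j (b01 (X 0))), commRel g5 (j (Y 0)) (j (b01 (X 1))),
      commRel g5 (j (Y 1)) (j (b01 (X 0))), commRel g5 (j (Y 1)) (j (b01 (X 1)))] with hE2
  have hj4 : ∀ x, bk 0 (show 0 + 4 ≤ n by omega) (j x) = bk 0 (show 0 + 3 ≤ n by omega) x := bk4_bk hn4 h04
  have hgen : Subgroup.closure (Set.range (pm F 2 n) ∪
      Set.range (bk (F := F) (q := 2) 0 (show 0 + 4 ≤ n by omega))) = ⊤ := by
    refine Two.closure_triples hF n (by omega) _ fun i h x => ?_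
    obtain ⟨σ, hσ⟩ := exists_even_free (seg_injective 0 (show 0 + 3 ≤ n by omega)) (seg_injective i h) hn
    show emb (seg i h) (seg_injective i h) x ∈ _
    rw [← pm_conj σ (seg_injective 0 (show 0 + 3 ≤ n by omega)) (seg_injective i h) hσ x,
      show emb (seg 0 (show 0 + 3 ≤ n by omega)) (seg_injective 0 _) x = bk 0 (show 0 + 4 ≤ n by omega) (j x) from
        (hj4 x).symm]
    exact mul_mem (mul_mem (Subgroup.subset_closure (Or.inl ⟨σ, rfl⟩))
      (Subgroup.subset_closure (Or.inr ⟨_, rfl⟩))) (inv_mem (Subgroup.subset_closure (Or.inl ⟨σ, rfl⟩)))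
  have hstd : ∀ w ∈ E2, evG (pm F 2 n) (bk 0 (show 0 + 4 ≤ n by omega)) w = 1 := by
    intro w hw
    rw [hE2, List.mem_append] at hw
    rcases hw with hw | hw
    · exact std_rels hn4 htt₁ htt₂ X w hw
    have hU : ∀ (U : alternatingGroup (Fin n)) (u : Fin 3 → Fin 3) (hu : Function.Injective u),
        (∀ a, (U : Perm (Fin n)) (i3 hn4 a) = i3 hn4 (u a)) → ∀ x,
        pm F 2 n U * bk 0 (show 0 + 3 ≤ n by omega) x * (pm F 2 n U)⁻¹ =
          bk 0 (show 0 + 3 ≤ n by omega) (emb u hu x) := fun U u hu h x => by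
      rw [bk, pm_conj U _ ((seg_injective 0 (show 0 + 3 ≤ n by omega)).comp hu) h, emb_comp]
      rfl
    have hC : ∀ y x, Commute (bk (F := F) (q := 2) 0 (show 0 + 3 ≤ n by omega) y)
        (pm F 2 n g5 * bk 0 (show 0 + 3 ≤ n by omega) (b01 x) * (pm F 2 n g5)⁻¹) := fun y x => by
      rw [b01, bk_bk 0 0 _ _ (show 0 + 0 + 2 ≤ n by omega),
        show pm F 2 n g5 * bk (0 + 0) (show 0 + 0 + 2 ≤ n by omega) x * (pm F 2 n g5)⁻¹ =
          bk 3 (show 3 + 2 ≤ n by omega) x from pm_conj g5 _ (seg_injective 3 _) hg5 x]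
      exact bk_commute _ _ (by omega) y x
    simp only [List.mem_cons, List.not_mem_nil, or_false] at hw
    rcases hw with rfl | rfl | rfl | rfl | rfl | rfl | rfl | rfl <;>
      simp only [evG_conjRel, evG_commRel, hj4]
    exacts [hU _ _ _ huu₁ _, hU _ _ _ huu₁ _, hU _ _ _ huu₂ _, hU _ _ _ huu₂ _, hC _ _, hC _ _, hC _ _, hC _ _]
  have hcore : ∀ {G : Type} [Group G] (ρ : alternatingGroup (Fin n) →* G) (F4 : Cfsg.SU 4 F 2 →* G),
      (∀ w ∈ E2, evG ρ F4 w = 1) →
      (∀ h6 : 3 + 3 ≤ n, ∃ (g : alternatingGroup (Fin n)) (u : Perm (Fin 3)),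
        (∀ a, (g : Perm (Fin n)) (i3 hn4 a) = seg 3 h6 (u a)) ∧
        ∀ x y, Commute (F4 (bk 0 h04 x)) (ρ g * F4 (bk 0 h04 y) * (ρ g)⁻¹)) → Hyp2 hn4 ρ F4 := by
    intro G _ ρ F4 hrel hfar3
    have H4 := hyp4_of_rels ρ F4 hn4 htt₁ htt₂ hTgen hX fun w hw => hrel w (by
      rw [hE2, List.mem_append]; exact Or.inl hw)
    have hm : ∀ {w}, w ∈ ([conjRel U₁ (j (Y 0)) (j (emb u₁ hu₁ (Y 0))), conjRel U₁ (j (Y 1)) (j (emb u₁ hu₁ (Y 1))),
      conjRel U₂ (j (Y 0)) (j (emb u₂ hu₂ (Y 0))), conjRel U₂ (j (Y 1)) (j (emb u₂ hu₂ (Y 1))),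
      commRel g5 (j (Y 0)) (j (b01 (X 0))), commRel g5 (j (Y 0)) (j (b01 (X 1))),
      commRel g5 (j (Y 1)) (j (b01 (X 0))), commRel g5 (j (Y 1)) (j (b01 (X 1)))] : List (GWord F 2 n)) →
        evG ρ F4 w = 1 := fun {w} hw => hrel w (by rw [hE2, List.mem_append]; exact Or.inr hw)
    let S : Subgroup (alternatingGroup (Fin n)) :=
      { carrier := {σ | ∃ (u : Fin 3 → Fin 3) (hu : Function.Injective u),
          (∀ a, (σ : Perm (Fin n)) (i3 hn4 a) = i3 hn4 (u a)) ∧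
          ∀ x, ρ σ * F4 (j x) * (ρ σ)⁻¹ = F4 (j (emb u hu x))}
        one_mem' := ⟨id, Function.injective_id, fun a => rfl, fun x => by
          rw [map_one, one_mul, inv_one, mul_one, emb_self Function.injective_id fun a => rfl]⟩
        mul_mem' := fun {σ σ'} ⟨u, hu, h, hx⟩ ⟨u', hu', h', hx'⟩ => ⟨u ∘ u', hu.comp hu', fun a => by
          rw [Subgroup.coe_mul, Perm.mul_apply, h', h, Function.comp_apply], fun x => by
          rw [map_mul, show ρ σ * ρ σ' * F4 (j x) * (ρ σ * ρ σ')⁻¹ =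
            ρ σ * (ρ σ' * F4 (j x) * (ρ σ')⁻¹) * (ρ σ)⁻¹ by group, hx', hx, emb_comp]
          rfl⟩
        inv_mem' := fun {σ} ⟨u, hu, h, hx⟩ => by
          let e := Equiv.ofBijective u ⟨hu, Finite.surjective_of_injective hu⟩
          have he : ∀ a, u (e.symm a) = a := e.apply_symm_apply
          refine ⟨e.symm, e.symm.injective, fun a => ?_, fun x => ?_⟩
          · rw [Subgroup.coe_inv, Perm.inv_eq_iff_eq, h, he]
          · have := hx (emb e.symm e.symm.injective x)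
            rw [emb_comp, emb_self (e := fun a => u (e.symm a)) _ he] at this
            rw [map_inv, inv_inv, ← this]
            group }
    have hUS : ∀ (U : alternatingGroup (Fin n)) (u : Fin 3 → Fin 3) (hu : Function.Injective u),
        (∀ a, (U : Perm (Fin n)) (i3 hn4 a) = i3 hn4 (u a)) →
        conjRel U (j (Y 0)) (j (emb u hu (Y 0))) ∈ E2 → conjRel U (j (Y 1)) (j (emb u hu (Y 1))) ∈ E2 → U ∈ S :=
      fun U u hu h h0 h1 => by
        refine ⟨u, hu, h, fun x => DFunLike.congr_fun (MonoidHom.eq_of_eqOn_dense hY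
          (f := (MulAut.conj (ρ U)).toMonoidHom.comp (F4.comp j)) (g := (F4.comp j).comp (emb u hu)) ?_) x⟩
        rintro _ ⟨k, rfl⟩
        obtain rfl | rfl : k = 0 ∨ k = 1 := by omega
        exacts [(evG_conjRel ρ F4).1 (hrel _ h0), (evG_conjRel ρ F4).1 (hrel _ h1)]
    obtain ⟨hc1, hc2⟩ := lift_c4_spec hn4
    have hrot : ∀ a : Fin 3, (t3 : Perm (Fin 3)) a = a + 1 := fun a => finRotate_apply a
    have hcS : lift4 hn4 c4 ∈ S := by
      refine ⟨(t3 : Perm (Fin 3)), Equiv.injective _, hc1, fun x => ?_⟩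
      have hρc : ρ (lift4 hn4 c4) = F4 (j (pm F 2 3 t3)) := by
        have := hrel (eqRel hn4 c4) (by simp only [hE2, relsFour, List.cons_append, List.mem_cons, true_or])
        rw [evG_eqRel] at this
        rw [this, pm_c4]
      rw [hρc, ← map_inv, ← map_inv, ← map_mul, ← map_mul, ← map_mul, ← map_mul]
      refine congrArg F4 (congrArg j ?_)
      conv_lhs => rw [← emb_self Function.injective_id (fun a => rfl) x]
      exact pm_conj t3 Function.injective_id (Equiv.injective _) (fun a => rfl) x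
    refine ⟨H4, fun σ u hu h x => ?_, fun h5 x y => ?_, hfar3⟩
    · obtain ⟨u', hu', h', hx'⟩ : σ ∈ S :=
        ((Subgroup.closure_le S).2 (by
          rintro τ (rfl | rfl | rfl)
          · exact hcS
          · exact hUS _ u₁ hu₁ huu₁ (by simp only [hE2, relsFour, List.cons_append, List.nil_append, List.mem_cons, true_or, or_true])
              (by simp only [hE2, relsFour, List.cons_append, List.nil_append, List.mem_cons, true_or, or_true])
          · exact hUS _ u₂ hu₂ huu₂ (by simp only [hE2, relsFour, List.cons_append, List.nil_append, List.mem_cons, true_or, or_true])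
              (by simp only [hE2, relsFour, List.cons_append, List.nil_append, List.mem_cons, true_or, or_true])))
          (hUgen (lift4 hn4 c4) (fun a => by rw [← hrot]; exact hc1 a) hc2
            (mem_stab3 (show 0 + 3 ≤ n by omega) hu h))
      have e : u = u' := funext fun a => seg_injective 0 (show 0 + 3 ≤ n by omega) ((h a).symm.trans (h' a))
      subst e
      exact hx' x
    · have hg : ∀ (k l : Fin 2), Commute (F4 (j (Y k))) (ρ g5 * F4 (j (b01 (X l))) * (ρ g5)⁻¹) := fun k l => by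
        refine (evG_commRel ρ F4).1 ?_
        obtain rfl | rfl : k = 0 ∨ k = 1 := by omega
        all_goals
          obtain rfl | rfl : l = 0 ∨ l = 1 := by omega
          all_goals exact hm (by simp only [List.mem_cons, true_or, or_true])
      rw [← H4.base.N_eq (seg_injective 3 h5) g5 hg5 x]
      have h1 : ∀ l y, Commute (ρ g5 * F4 (j (b01 (X l))) * (ρ g5)⁻¹) (F4 (j y)) := fun l y => by
        have hle : (⊤ : Subgroup (Cfsg.SU 3 F 2)) ≤
            (Subgroup.centralizer {ρ g5 * F4 (j (b01 (X l))) * (ρ g5)⁻¹}).comap (F4.comp j) := by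
          rw [← hY, Subgroup.closure_le]
          rintro _ ⟨k, rfl⟩
          rw [SetLike.mem_coe, Subgroup.mem_comap, Subgroup.mem_centralizer_singleton_iff]
          exact (hg k l).eq
        exact (Subgroup.mem_centralizer_singleton_iff.1 (Subgroup.mem_comap.1 (hle (Subgroup.mem_top y))) :
          F4 (j y) * _ = _ * F4 (j y)).symm
      let f := (MulAut.conj (ρ g5)).toMonoidHom.comp (F4.comp (j.comp b01))
      have hle : (⊤ : Subgroup (Cfsg.SU 2 F 2)) ≤ (Subgroup.centralizer {F4 (j y)}).comap f := by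
        rw [← hX, Subgroup.closure_le]
        rintro _ ⟨l, rfl⟩
        rw [SetLike.mem_coe, Subgroup.mem_comap, Subgroup.mem_centralizer_singleton_iff]
        exact (h1 l y).eq
      exact (Subgroup.mem_centralizer_singleton_iff.1 (Subgroup.mem_comap.1 (hle (Subgroup.mem_top x))) :
        f x * F4 (j y) = F4 (j y) * f x)
  by_cases h6 : 6 ≤ n
  · rw [if_pos h6]
    have h6' : (3 : ℕ) + 3 ≤ n := by omega
    obtain ⟨g, hg⟩ := exists_even_ext (seg_injective 0 (show 0 + 3 ≤ n by omega)) (seg_injective 3 h6')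
      (show (0 : Fin 3) ≠ 1 by decide)
    obtain ⟨u, hu⟩ : ∃ u : Perm (Fin 3), ∀ a, (g : Perm (Fin n)) (i3 hn4 a) = seg 3 h6' (u a) := by
      rcases hg with h | h
      exacts [⟨1, h⟩, ⟨_, h⟩]
    set E3 : List (GWord F 2 n) := [commRel g (j (Y 0)) (j (Y 0)), commRel g (j (Y 0)) (j (Y 1)),
      commRel g (j (Y 1)) (j (Y 0)), commRel g (j (Y 1)) (j (Y 1))] with hE3
    obtain ⟨v, hv⟩ := glue4 hn4 ha hb (E2 ++ E3) (fun w hw => by
      rcases List.mem_append.1 hw with hw | hw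
      · exact hstd w hw
      have hC : ∀ x y, Commute (bk (F := F) (q := 2) 0 (show 0 + 3 ≤ n by omega) x)
          (pm F 2 n g * bk 0 (show 0 + 3 ≤ n by omega) y * (pm F 2 n g)⁻¹) := fun x y => by
        rw [show pm F 2 n g * bk 0 (show 0 + 3 ≤ n by omega) y * (pm F 2 n g)⁻¹ =
          emb (fun a => seg 3 h6' (u a)) ((seg_injective 3 h6').comp u.injective) y from pm_conj g _ _ hu y,
          show emb (fun a => seg 3 h6' (u a)) ((seg_injective 3 h6').comp u.injective) y =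
            bk 3 h6' (emb u u.injective y) from (emb_comp _ _ _ _ y).symm]
        exact bk_commute _ _ (by omega) x _
      simp only [hE3, List.mem_cons, List.not_mem_nil, or_false] at hw
      rcases hw with rfl | rfl | rfl | rfl <;> simp only [evG_commRel, hj4] <;> exact hC _ _) hgen
      fun G _ ρ F4 hrel hgG => Hyp2.exists_surjective_two hn (hcore ρ F4
        (fun w hw => hrel w (List.mem_append.2 (Or.inl hw))) fun _ => ⟨g, u, hu, fun x y => by
          have hgkl : ∀ (k l : Fin 2), Commute (F4 (j (Y k))) (ρ g * F4 (j (Y l)) * (ρ g)⁻¹) := fun k l => by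
            refine (evG_commRel ρ F4).1 (hrel _ (List.mem_append.2 (Or.inr ?_)))
            obtain rfl | rfl : k = 0 ∨ k = 1 := by omega
            all_goals
              obtain rfl | rfl : l = 0 ∨ l = 1 := by omega
              all_goals simp only [hE3, List.mem_cons, true_or, or_true]
          let f := (MulAut.conj (ρ g)).toMonoidHom.comp (F4.comp j)
          have h1 : ∀ l x, Commute (F4 (j x)) (f (Y l)) := fun l x => by
            have hle : (⊤ : Subgroup (Cfsg.SU 3 F 2)) ≤ (Subgroup.centralizer {f (Y l)}).comap (F4.comp j) := by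
              rw [← hY, Subgroup.closure_le]
              rintro _ ⟨k, rfl⟩
              rw [SetLike.mem_coe, Subgroup.mem_comap, Subgroup.mem_centralizer_singleton_iff]
              exact (hgkl k l).eq
            exact Subgroup.mem_centralizer_singleton_iff.1 (Subgroup.mem_comap.1 (hle (Subgroup.mem_top x)))
          have hle : (⊤ : Subgroup (Cfsg.SU 3 F 2)) ≤ (Subgroup.centralizer {F4 (j x)}).comap f := by
            rw [← hY, Subgroup.closure_le]
            rintro _ ⟨l, rfl⟩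
            rw [SetLike.mem_coe, Subgroup.mem_comap, Subgroup.mem_centralizer_singleton_iff]
            exact (h1 l x).eq.symm
          exact (Subgroup.mem_centralizer_singleton_iff.1 (Subgroup.mem_comap.1 (hle (Subgroup.mem_top y))) :
            f y * F4 (j x) = F4 (j x) * f y).symm⟩) hF hgG
    obtain ⟨w, hw⟩ := hasPres_pad' (k := 6) (by simp) hv
    exact ⟨w, hw.mono (by simp [hE2, hE3, relsFour])⟩
  · rw [if_neg h6]
    obtain ⟨v, hv⟩ := glue4 hn4 ha hb E2 hstd hgen fun G _ ρ F4 hrel hgG =>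
      Hyp2.exists_surjective_two hn (hcore ρ F4 hrel fun h => absurd h (by omega)) hF hgG
    obtain ⟨w, hw⟩ := hasPres_pad' (k := 6) (by simp) hv
    exact ⟨w, hw.mono (by simp [hE2, relsFour])⟩

end

end CfsgLib.SUPresent
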