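import Cfsg.Agent.Lib.Phan.Blocks

/-!
Permutation matrices in the special unitary group of the standard form, and even permutations extending
injections.
-/

set_option autoImplicit false
set_option linter.unusedSectionVars false

namespace CfsgLib.SUPresent

open Matrix Equiv CfsgLib.Phan CfsgLib.ClassicalGroups

variable {F : Type*} [Field F] [Fintype F] {q n k l : ℕ}

/-- The matrix of a permutation, sending the basis vector at `i` to the one at `σ i`. -/
def permSL (σ : alternatingGroup (Fin n)) : SpecialLinearGroup (Fin n) F :=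
  ⟨((σ : Perm (Fin n))⁻¹).permMatrix F, by
    rw [Matrix.det_permutation, map_inv, Equiv.Perm.mem_alternatingGroup.1 σ.2]; simp⟩

theorem permSL_mulVec (σ : alternatingGroup (Fin n)) (v : Fin n → F) :
    (permSL (F := F) σ).1 *ᵥ v = v ∘ ((σ : Perm (Fin n))⁻¹ : Perm (Fin n)) :=
  Matrix.permMatrix_mulVec _

theorem permSL_mem (σ : alternatingGroup (Fin n)) : permSL (F := F) σ ∈ Cfsg.SU n F q := by
  refine mem_SU_iff.2 fun u v => ?_
  rw [permSL_mulVec, permSL_mulVec]
  exact Equiv.sum_comp ((σ : Perm (Fin n))⁻¹) fun i => u i * v i ^ q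

variable (F q n) in
/-- The permutation matrices. -/
def pm : alternatingGroup (Fin n) →* Cfsg.SU n F q where
  toFun σ := ⟨permSL σ, permSL_mem σ⟩
  map_one' := Subtype.ext (Subtype.ext (Matrix.ext_of_mulVec_single fun i => by
    show (permSL (F := F) 1).1 *ᵥ _ = (1 : Matrix (Fin n) (Fin n) F) *ᵥ _
    rw [permSL_mulVec, Matrix.one_mulVec]; simp))
  map_mul' σ τ := Subtype.ext (Subtype.ext (Matrix.ext_of_mulVec_single fun i => by
    show (permSL (F := F) (σ * τ)).1 *ᵥ _ = ((permSL (F := F) σ).1 * (permSL (F := F) τ).1) *ᵥ _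
    rw [← Matrix.mulVec_mulVec, permSL_mulVec, permSL_mulVec, permSL_mulVec, Subgroup.coe_mul,
      _root_.mul_inv_rev]
    rfl))

theorem act_pm (σ : alternatingGroup (Fin n)) (v : Fin n → F) (x : Fin n) :
    act (pm F q n σ) v x = v ((σ : Perm (Fin n))⁻¹ x) :=
  congrFun (permSL_mulVec σ v) x

theorem inv_apply (σ : Perm (Fin n)) (x : Fin n) : σ⁻¹ (σ x) = x := σ.symm_apply_apply x

theorem apply_inv (σ : Perm (Fin n)) (x : Fin n) : σ (σ⁻¹ x) = x := σ.apply_symm_apply x

theorem act_pm_apply (σ : alternatingGroup (Fin n)) (v : Fin n → F) (x : Fin n) :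
    act (pm F q n σ) v ((σ : Perm (Fin n)) x) = v x := by
  rw [act_pm, inv_apply]

/-- Conjugation moves blocks. -/
theorem pm_conj (σ : alternatingGroup (Fin n)) {e e' : Fin k → Fin n} (he : Function.Injective e)
    (he' : Function.Injective e') (h : ∀ a, (σ : Perm (Fin n)) (e a) = e' a) (x : Cfsg.SU k F q) :
    pm F q n σ * emb e he x * (pm F q n σ)⁻¹ = emb e' he' x := by
  rw [mul_inv_eq_iff_eq_mul]
  refine act_ext fun i => funext fun y => ?_
  set v : Fin n → F := Pi.single i 1
  obtain ⟨z, rfl⟩ : ∃ z, (σ : Perm (Fin n)) z = y := ⟨_, apply_inv _ y⟩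
  rw [act_mul, act_mul, act_pm_apply]
  by_cases hz : z ∈ Set.range e
  · obtain ⟨a, rfl⟩ := hz
    rw [h, act_emb_mem, act_emb_mem]
    congr 1
    funext b
    rw [Function.comp_apply, Function.comp_apply, ← h, act_pm_apply]
  · rw [act_emb_not he x v hz, act_emb_not he' x _ (fun ⟨b, hb⟩ => hz ⟨b, (σ : Perm (Fin n)).injective (by
      rw [h]; exact hb)⟩), act_pm_apply]

/-- A permutation supported on a block is the block of a permutation. -/
theorem pm_eq_emb (σ : alternatingGroup (Fin n)) (τ : alternatingGroup (Fin k)) {e : Fin k → Fin n}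
    (he : Function.Injective e) (h : ∀ a, (σ : Perm (Fin n)) (e a) = e ((τ : Perm (Fin k)) a))
    (hout : ∀ x, x ∉ Set.range e → (σ : Perm (Fin n)) x = x) : pm F q n σ = emb e he (pm F q k τ) := by
  refine act_ext fun i => funext fun y => ?_
  set v : Fin n → F := Pi.single i 1
  obtain ⟨z, rfl⟩ : ∃ z, (σ : Perm (Fin n)) z = y := ⟨_, apply_inv _ y⟩
  rw [act_pm_apply]
  by_cases hz : z ∈ Set.range e
  · obtain ⟨a, rfl⟩ := hz
    rw [h, act_emb_mem, act_pm_apply, Function.comp_apply]
  · rw [hout z hz, act_emb_not he _ v hz]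

theorem pm_injective : Function.Injective (pm F q n) := fun σ τ h => by
  refine Subtype.ext (Equiv.ext fun x => ?_)
  by_contra hne
  have := congrArg (fun g => act g (Pi.single x (1 : F)) ((σ : Perm (Fin n)) x)) h
  simp only [act_pm_apply] at this
  rw [act_pm, Pi.single_eq_same, Pi.single_eq_of_ne] at this
  · exact one_ne_zero this
  · intro e
    apply hne
    rw [← apply_inv (τ : Perm (Fin n)) ((σ : Perm (Fin n)) x), e]

/-- A permutation extending an injection. -/
theorem exists_perm_ext {e e' : Fin k → Fin n} (he : Function.Injective e) (he' : Function.Injective e') :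
    ∃ σ : Perm (Fin n), ∀ a, σ (e a) = e' a := by
  classical
  refine ⟨((Equiv.ofInjective e he).symm.trans (Equiv.ofInjective e' he')).extendSubtype, fun a => ?_⟩
  rw [Equiv.extendSubtype_apply_of_mem _ _ (Set.mem_range_self a)]
  simp

/-- An even permutation extending an injection, up to a swap of two points of the source. -/
theorem exists_even_ext {e e' : Fin k → Fin n} (he : Function.Injective e) (he' : Function.Injective e')
    {a b : Fin k} (hab : a ≠ b) :
    ∃ σ : alternatingGroup (Fin n), (∀ i, (σ : Perm (Fin n)) (e i) = e' i) ∨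
      ∀ i, (σ : Perm (Fin n)) (e i) = e' (Equiv.swap a b i) := by
  obtain ⟨σ, hσ⟩ := exists_perm_ext he he'
  rcases Int.units_eq_one_or (Equiv.Perm.sign σ) with h | h
  · exact ⟨⟨σ, Equiv.Perm.mem_alternatingGroup.2 h⟩, Or.inl hσ⟩
  · refine ⟨⟨σ * Equiv.swap (e a) (e b), Equiv.Perm.mem_alternatingGroup.2 (by
      rw [map_mul, h, Equiv.Perm.sign_swap (he.ne hab)]; decide)⟩, Or.inr fun i => ?_⟩
    show σ (Equiv.swap (e a) (e b) (e i)) = _
    rw [he.swap_apply, hσ]

/-- An even permutation extending an injection missing two points. -/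
theorem exists_even_free {e e' : Fin k → Fin n} (he : Function.Injective e) (he' : Function.Injective e')
    (hk : k + 2 ≤ n) : ∃ σ : alternatingGroup (Fin n), ∀ i, (σ : Perm (Fin n)) (e i) = e' i := by
  classical
  obtain ⟨σ, hσ⟩ := exists_perm_ext he he'
  rcases Int.units_eq_one_or (Equiv.Perm.sign σ) with h | h
  · exact ⟨⟨σ, Equiv.Perm.mem_alternatingGroup.2 h⟩, hσ⟩
  have hc : 1 < (Finset.univ.image e)ᶜ.card := by
    rw [Finset.card_compl, Finset.card_image_of_injective _ he]
    simp only [Fintype.card_fin, Finset.card_univ]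
    omega
  obtain ⟨x, hx, y, hy, hxy⟩ := Finset.one_lt_card.1 hc
  simp only [Finset.mem_compl, Finset.mem_image, Finset.mem_univ, true_and, not_exists] at hx hy
  refine ⟨⟨σ * Equiv.swap x y, Equiv.Perm.mem_alternatingGroup.2 (by
    rw [map_mul, h, Equiv.Perm.sign_swap hxy]; decide)⟩, fun i => ?_⟩
  show σ (Equiv.swap x y (e i)) = _
  rw [Equiv.swap_apply_of_ne_of_ne (hx i) (hy i), hσ]

end CfsgLib.SUPresent
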