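import Cfsg.Agent.Lib.SUPresent.GlueSmall

/-!
Presentations of `SU_n(q)`, `n ≥ 4`, on six generators and thirty-four relations.
-/

set_option autoImplicit false
set_option linter.unusedSectionVars false

namespace CfsgLib.SUPresent

open CfsgLib.SymPresent

variable {F : Type*} [Field F] [Fintype F] {q n : ℕ}

/-- Six generators and thirty-four relations for all fields. -/
theorem su_six (hF : Fintype.card F = q ^ 2) (hn : 4 ≤ n) :
    ∃ v : Fin 6 → ↥(Cfsg.SU n F q), HasPres v 34 := by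
  have hq := CfsgLib.SUThreePresent.q_two_le hF
  rcases le_or_gt 4 q with h4 | h4
  · obtain ⟨v, hv⟩ := su_large hF h4 hn
    exact ⟨v, hv.mono (by norm_num)⟩
  rcases hn.eq_or_lt with rfl | h5
  · have pad : ∀ {v : Fin 3 → ↥(Cfsg.SU 4 F q)}, HasPres v 15 → ∃ w : Fin 6 → ↥(Cfsg.SU 4 F q), HasPres w 34 := by
      intro v hv
      obtain ⟨w1, h1⟩ := CfsgLib.SpPresent.hasPres_pad hv
      obtain ⟨w2, h2⟩ := CfsgLib.SpPresent.hasPres_pad h1
      obtain ⟨w3, h3⟩ := CfsgLib.SpPresent.hasPres_pad h2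
      exact ⟨w3, h3.mono (by norm_num)⟩
    rcases (show q = 2 ∨ q = 3 by omega) with rfl | rfl
    · obtain ⟨v, hv⟩ := su_four_two hF
      exact pad (hv.mono (by norm_num))
    · obtain ⟨v, hv⟩ := su_four_three hF
      exact pad hv
  · obtain ⟨a, ha⟩ := three_gen n h5 true
    rcases (show q = 2 ∨ q = 3 by omega) with rfl | rfl
    · obtain ⟨b, hb⟩ := su_four_two hF
      obtain ⟨v, hv⟩ := glue_two hF h5 (ha.map (altEquiv n)) hb
      exact ⟨v, hv.mono (by split_ifs <;> norm_num)⟩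
    · obtain ⟨b, hb⟩ := su_four_three hF
      obtain ⟨v, hv⟩ := glue_three hF le_rfl h5 (ha.map (altEquiv n)) hb
      exact ⟨v, hv.mono (by norm_num)⟩

/-- A presented group with few relations. -/
theorem exists_rels {G : Type*} [Group G] {k r m : ℕ} {v : Fin k → G} (h : HasPres v r) (hm : r ≤ m) :
    ∃ rels : Finset (FreeGroup (Fin k)), rels.card ≤ m ∧
      Nonempty (PresentedGroup (↑rels : Set (FreeGroup (Fin k))) ≃* G) :=
  let ⟨R, hR, e, _⟩ := h
  ⟨R, hR.trans hm, ⟨e⟩⟩

end CfsgLib.SUPresent
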