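import Cfsg.Agent.Lib.SUPresent.Code

/-! Generated data: generators of `SU_4(2)`, `SU_4(3)` in codes and words for standard elements. -/

set_option autoImplicit false

namespace CfsgLib.SUPresent.SmallData

open CfsgLib.SUPresent

/-- Parameters for the field with four elements. -/
def ctxTwo : CodeCtx := ⟨2, 1, 1⟩

/-- Parameters for the field with nine elements. -/
def ctxThree : CodeCtx := ⟨3, 2, 0⟩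

/-- Blocks of the letters in `SU_3(2)`: generators and inverses. -/
def lettersTwo : List (List ℕ) := [[1, 2, 3, 1, 1, 1, 1, 3, 2], [1, 1, 1, 3, 1, 2, 2, 1, 3],
  [1, 2, 2, 3, 3, 2, 3, 2, 3], [1, 2, 2, 3, 2, 3, 3, 3, 2]]

/-- Blocks of the letters in `SU_3(3)`: generators and inverses. -/
def lettersThree : List (List ℕ) := [[3, 3, 4, 4, 3, 3, 3, 4, 3], [6, 7, 6, 6, 6, 7, 7, 6, 6],
  [8, 0, 4, 3, 7, 3, 1, 4, 1], [5, 6, 1, 0, 4, 7, 7, 6, 1]]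

/-- Words for the standard generators of the blocks of `SU_3(2)` in `SU_4(2)`. -/
def wordsTwo : List (List ℕ) :=
  [[0, 2, 1, 2],
    [1, 3, 1, 1, 1, 2],
    [0, 3, 1, 1, 3, 1],
    [2, 2],
    [0, 0, 0, 2, 0, 0, 2],
    [0, 0, 2],
    [0, 0, 2, 0, 0, 0],
    [0, 3, 1, 1, 3, 1],
    [2, 2],
    [0, 0, 3, 4, 0, 0, 4, 0],
    [1, 3, 1, 1, 1, 2, 4],
    [0, 3, 1, 4, 2, 4, 0, 4],
    [0, 2, 1, 1, 4, 3, 4, 0],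
    [0, 2, 4, 2, 0, 0, 4, 1]]

/-- Words for the standard generators of the blocks of `SU_2(3)` in `SU_4(3)`. -/
def wordsThree : List (List ℕ) :=
  [[0, 2, 0, 2, 0, 3, 1, 3, 3, 1],
    [1, 2, 2, 1, 2, 2, 1, 2, 0, 2],
    [1, 2, 2, 0, 3, 3, 1, 2, 1],
    [0, 2, 1, 3, 0, 2, 2, 1, 3],
    [2, 1, 3, 3, 0, 3, 3],
    [3, 3, 0, 2, 2, 1, 3, 3, 1, 2],
    [2, 2, 0, 2, 0, 3, 0, 2, 0, 2, 0, 4, 1, 3, 1, 3, 1, 2, 1, 3, 1, 3, 3, 0, 2, 0, 2, 0, 3, 1, 3, 3, 1, 2, 2, 0, 2, 0, 3, 0, 2, 0, 2, 0, 4, 1, 3, 1, 3, 1, 2, 1, 3, 1, 3, 3],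
    [2, 2, 0, 2, 0, 3, 0, 2, 0, 2, 0, 4, 1, 3, 1, 3, 1, 2, 1, 3, 1, 3, 3, 1, 2, 2, 1, 2, 2, 1, 2, 0, 2, 2, 2, 0, 2, 0, 3, 0, 2, 0, 2, 0, 4, 1, 3, 1, 3, 1, 2, 1, 3, 1, 3, 3],
    [2, 2, 0, 2, 0, 3, 0, 2, 0, 2, 0, 4, 1, 3, 1, 3, 1, 2, 1, 3, 1, 3, 3, 1, 2, 2, 0, 3, 3, 1, 2, 1, 2, 2, 0, 2, 0, 3, 0, 2, 0, 2, 0, 4, 1, 3, 1, 3, 1, 2, 1, 3, 1, 3, 3]]

end CfsgLib.SUPresent.SmallData
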